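import Cfsg.Agent.PGroup.CountIndex
import Cfsg.Agent.PGroup.Small
import Cfsg.Agent.PGroup.Commutator
import Cfsg.Agent.TwoGroup.Subgroups
import Cfsg.Agent.TwoGroup.MaximalClass

/-!
How many maximal subgroups of a `p`-group are cyclic or of maximal class.
-/

set_option autoImplicit false

open scoped commutatorElement

namespace CfsgLib.PGroup

variable {p : ℕ} [Fact p.Prime] {G : Type*} [Group G] [Finite G]

theorem eq_zpowers_of_not_le {g : G} {j : ℕ} (hg : orderOf g = p ^ j) {H : Subgroup G}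
    (hH : H ≤ Subgroup.zpowers g) (hn : ¬ H ≤ Subgroup.zpowers (g ^ p)) :
    H = Subgroup.zpowers g := by
  have hp : p.Prime := Fact.out
  obtain ⟨h, hh, hh'⟩ := SetLike.not_le_iff_exists.1 hn
  obtain ⟨i, rfl⟩ : ∃ i : ℕ, g ^ i = h := mem_powers_iff_mem_zpowers.2 (hH hh)
  refine le_antisymm hH ?_
  have hpi : ¬ p ∣ i := by
    rintro ⟨t, rfl⟩
    exact hh' (by rw [pow_mul]; exact Subgroup.npow_mem_zpowers _ _)
  have hord : orderOf (g ^ i) = orderOf g :=
    Nat.Coprime.orderOf_pow (by rw [hg]; exact ((hp.coprime_iff_not_dvd.2 hpi).pow_left j))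
  have : Subgroup.zpowers (g ^ i) = Subgroup.zpowers g :=
    Subgroup.eq_of_le_of_card_ge (Subgroup.zpowers_le.2 (Subgroup.npow_mem_zpowers _ _))
      (by rw [Nat.card_zpowers, Nat.card_zpowers, hord])
  rw [← this]
  exact Subgroup.zpowers_le.2 hh

omit [Finite G] in
theorem zpowers_pow_normal {a : G} (n : ℕ) (h : (Subgroup.zpowers a).Normal) :
    (Subgroup.zpowers (a ^ n)).Normal := by
  refine ⟨fun x hx g => ?_⟩
  obtain ⟨i, rfl⟩ := Subgroup.mem_zpowers_iff.1 hx
  obtain ⟨t, ht⟩ := Subgroup.mem_zpowers_iff.1 (h.conj_mem a (Subgroup.mem_zpowers a) g)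
  refine Subgroup.mem_zpowers_iff.2 ⟨t * i, ?_⟩
  rw [← conj_zpow, ← conj_pow, ← ht, ← zpow_natCast, ← zpow_natCast, ← zpow_mul, ← zpow_mul,
    ← zpow_mul]
  congr 1; ring

theorem index_zpowers {m : ℕ} (hm : Nat.card G = p ^ (m + 1)) {a : G} (ha : orderOf a = p ^ m) :
    (Subgroup.zpowers a).index = p := by
  have h := (Subgroup.zpowers a).card_mul_index
  rw [Nat.card_zpowers, ha, hm, pow_succ] at h
  exact Nat.eq_of_mul_eq_mul_left (pow_pos (Fact.out : p.Prime).pos m) h

theorem card_of_index {m : ℕ} (hm : Nat.card G = p ^ (m + 1)) {M : Subgroup G}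
    (hM : M.index = p) : Nat.card M = p ^ m := by
  have h := M.card_mul_index
  rw [hM, hm, pow_succ] at h
  exact Nat.eq_of_mul_eq_mul_right (Fact.out : p.Prime).pos h

/-- If `p`-th powers are multiplicative modulo `⟨a ^ (p ^ 2)⟩`, where `⟨a⟩` has index `p`, exactly
one maximal subgroup is not cyclic. -/
theorem card_noncyclic_maximal_eq_one {m : ℕ} (hm : Nat.card G = p ^ (m + 1)) (hm2 : 2 ≤ m)
    (hnc : ¬ IsCyclic G) {a : G} (ha : orderOf a = p ^ m)
    (hhom : ∀ x y : G, ((x * y) ^ p)⁻¹ * (x ^ p * y ^ p) ∈ Subgroup.zpowers (a ^ p ^ 2)) :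
    Nat.card {M : Subgroup G // M.index = p ∧ ¬ IsCyclic M} = 1 := by
  have hp : p.Prime := Fact.out
  have hG : IsPGroup p G := IsPGroup.of_card hm
  have hC : (Subgroup.zpowers a).Normal :=
    normal_of_coatom hG (isCoatom_of_index_eq (index_zpowers hm ha))
  set D := Subgroup.zpowers (a ^ p ^ 2) with hD
  haveI hDn : D.Normal := zpowers_pow_normal _ hC
  have hpow : ∀ x : G, x ^ p ∈ Subgroup.zpowers (a ^ p) := by
    intro x
    have h1 : x ^ p ∈ Subgroup.zpowers a := by
      haveI := hC
      have := Subgroup.pow_index_mem (Subgroup.zpowers a) x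
      rwa [index_zpowers hm ha] at this
    by_contra hx
    refine hnc (isCyclic_of_orderOf_eq_card x ?_)
    have h2 := eq_zpowers_of_not_le ha (H := Subgroup.zpowers (x ^ p)) (Subgroup.zpowers_le.2 h1)
      (fun h => hx (h (Subgroup.mem_zpowers _)))
    have h3 : orderOf (x ^ p) = p ^ m := by rw [← ha, ← Nat.card_zpowers, h2, Nat.card_zpowers]
    obtain ⟨j, hj⟩ := IsPGroup.iff_orderOf.1 hG x
    have hj0 : j ≠ 0 := by
      rintro rfl
      rw [pow_zero, orderOf_eq_one_iff] at hj
      rw [hj, one_pow, orderOf_one] at h3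
      have := Nat.one_lt_pow (show m ≠ 0 by omega) hp.one_lt
      omega
    rw [orderOf_pow_of_dvd hp.ne_zero (hj ▸ dvd_pow_self p hj0), hj] at h3
    rw [hj, hm, show j = m + 1 from ?_]
    obtain ⟨j', rfl⟩ : ∃ j', j = j' + 1 := ⟨j - 1, by omega⟩
    rw [pow_succ, Nat.mul_div_cancel _ hp.pos] at h3
    rw [Nat.pow_right_injective hp.two_le h3]
  have hap : orderOf (a ^ p) = p ^ (m - 1) := by
    rw [orderOf_pow_of_dvd hp.ne_zero (ha ▸ dvd_pow_self p (by omega)), ha]
    exact Nat.div_eq_of_eq_mul_left hp.pos (by rw [← pow_succ, show m - 1 + 1 = m by omega])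
  have hapD : a ^ p ∉ D := by
    intro h
    have h1 := Subgroup.card_dvd_of_le (Subgroup.zpowers_le.2 h :
      Subgroup.zpowers (a ^ p) ≤ Subgroup.zpowers (a ^ p ^ 2))
    rw [Nat.card_zpowers, Nat.card_zpowers, hap,
      orderOf_pow_of_dvd (pow_ne_zero 2 hp.ne_zero) (ha ▸ pow_dvd_pow p hm2), ha,
      Nat.pow_div hm2 hp.pos] at h1
    have := (Nat.pow_dvd_pow_iff_le_right hp.one_lt).1 h1
    omega
  let φ : G →* G ⧸ D :=
    { toFun := fun x => QuotientGroup.mk' D (x ^ p)
      map_one' := by rw [one_pow, map_one]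
      map_mul' := fun x y => by
        rw [← map_mul]
        exact (QuotientGroup.eq (s := D)).2 (hhom x y) }
  have hker : ∀ x, x ∈ φ.ker ↔ x ^ p ∈ D := fun x => QuotientGroup.eq_one_iff _
  have hrange : φ.range = Subgroup.zpowers (QuotientGroup.mk' D (a ^ p)) := by
    refine le_antisymm ?_ (Subgroup.zpowers_le.2 ⟨a, rfl⟩)
    rintro _ ⟨x, rfl⟩
    obtain ⟨i, hi⟩ := Subgroup.mem_zpowers_iff.1 (hpow x)
    exact Subgroup.mem_zpowers_iff.2 ⟨i, by
      show _ = QuotientGroup.mk' D (x ^ p)
      rw [← map_zpow, hi]⟩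
  have hK : φ.ker.index = p := by
    rw [Subgroup.index_ker, hrange, Nat.card_zpowers]
    refine orderOf_eq_prime ?_ ?_
    · rw [← map_pow, ← pow_mul, ← sq]
      exact (QuotientGroup.eq_one_iff _).2 (Subgroup.mem_zpowers _)
    · exact fun h => hapD ((QuotientGroup.eq_one_iff _).1 h)
  refine Nat.card_eq_one_iff_exists.2 ⟨⟨φ.ker, hK, ?_⟩, fun M => Subtype.ext ?_⟩
  · intro hcyc
    obtain ⟨b, hb⟩ := hcyc.exists_generator
    have hbo : orderOf (b : G) = p ^ m := by
      rw [Subgroup.orderOf_coe, orderOf_eq_card_of_forall_mem_zpowers hb, card_of_index hm hK]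
    have h1 := Subgroup.card_dvd_of_le
      (Subgroup.zpowers_le.2 ((hker b).1 b.2) :
        Subgroup.zpowers ((b : G) ^ p) ≤ Subgroup.zpowers (a ^ p ^ 2))
    rw [Nat.card_zpowers, Nat.card_zpowers,
      orderOf_pow_of_dvd (pow_ne_zero 2 hp.ne_zero) (ha ▸ pow_dvd_pow p hm2), ha,
      orderOf_pow_of_dvd hp.ne_zero (hbo ▸ dvd_pow_self p (by omega)), hbo,
      Nat.pow_div hm2 hp.pos] at h1
    nth_rewrite 2 [← pow_one p] at h1
    rw [Nat.pow_div (by omega) hp.pos] at h1
    have := (Nat.pow_dvd_pow_iff_le_right hp.one_lt).1 h1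
    omega
  · by_contra hne
    obtain ⟨x, hxM, hxK⟩ : ∃ x ∈ M.1, x ∉ φ.ker := by
      by_contra hc
      push_neg at hc
      exact hne (Subgroup.eq_of_le_of_card_ge hc
        (by rw [card_of_index hm hK, card_of_index hm M.2.1]))
    rw [hker] at hxK
    have h2 := eq_zpowers_of_not_le hap (H := Subgroup.zpowers (x ^ p))
      (Subgroup.zpowers_le.2 (hpow x)) (fun h => hxK (by
        have := h (Subgroup.mem_zpowers _); rwa [← pow_mul, ← sq] at this))
    have h3 : orderOf (x ^ p) = p ^ (m - 1) := by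
      rw [← hap, ← Nat.card_zpowers, h2, Nat.card_zpowers]
    obtain ⟨j, hj⟩ := IsPGroup.iff_orderOf.1 hG x
    have hj0 : j ≠ 0 := by
      rintro rfl
      rw [pow_zero, orderOf_eq_one_iff] at hj
      rw [hj, one_pow, orderOf_one] at h3
      have := Nat.one_lt_pow (show m - 1 ≠ 0 by omega) hp.one_lt
      omega
    rw [orderOf_pow_of_dvd hp.ne_zero (hj ▸ dvd_pow_self p hj0), hj] at h3
    obtain ⟨j', rfl⟩ : ∃ j', j = j' + 1 := ⟨j - 1, by omega⟩
    rw [pow_succ, Nat.mul_div_cancel _ hp.pos] at h3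
    have hj' := Nat.pow_right_injective hp.two_le h3
    refine M.2.2 (isCyclic_of_orderOf_eq_card ⟨x, hxM⟩ ?_)
    rw [← Subgroup.orderOf_coe, hj, card_of_index hm M.2.1, show j' + 1 = m by omega]

theorem card_maximal_split (P : Subgroup G → Prop) :
    Nat.card {M : Subgroup G // M.index = p ∧ P M} +
      Nat.card {M : Subgroup G // M.index = p ∧ ¬ P M} =
      Nat.card {M : Subgroup G // M.index = p} := by
  classical
  rw [← Nat.card_congr (Equiv.subtypeSubtypeEquivSubtypeInter (fun M : Subgroup G => M.index = p) P),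
    ← Nat.card_congr (Equiv.subtypeSubtypeEquivSubtypeInter (fun M : Subgroup G => M.index = p)
      (fun M => ¬ P M)), ← Nat.card_sum]
  exact Nat.card_congr (Equiv.sumCompl fun M : {M : Subgroup G // M.index = p} => P M.1)

theorem card_maximal_modEq_one (hG : IsPGroup p G) (hnc : ¬ IsCyclic G) :
    Nat.card {M : Subgroup G // M.index = p} ≡ 1 [MOD p] := by
  refine ((card_maximal_modEq hG hnc).of_dvd (dvd_pow_self p two_ne_zero)).trans ?_
  exact ((Nat.modEq_zero_iff_dvd.2 dvd_rfl).add_left 1).trans (by rfl)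

/-- The noncyclic maximal subgroups of a non-cyclic group of odd order `p ^ n` number `1` modulo
`p`; the same for `p = 2` when the commutator subgroup does not have index four. -/
theorem card_noncyclic_maximal_modEq {m : ℕ} (hm : Nat.card G = p ^ (m + 1)) (hm2 : 2 ≤ m)
    (hnc : ¬ IsCyclic G) (h4 : p = 2 → (commutator G).index ≠ 4) :
    Nat.card {M : Subgroup G // M.index = p ∧ ¬ IsCyclic M} ≡ 1 [MOD p] := by
  have hp : p.Prime := Fact.out
  have hG : IsPGroup p G := IsPGroup.of_card hm
  by_cases hex : ∃ C : Subgroup G, C.index = p ∧ IsCyclic C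
  swap
  · have : Nat.card {M : Subgroup G // M.index = p ∧ ¬ IsCyclic M} =
        Nat.card {M : Subgroup G // M.index = p} :=
      Nat.card_congr (Equiv.subtypeEquivRight fun M =>
        ⟨fun h => h.1, fun h => ⟨h, fun hc => hex ⟨M, h, hc⟩⟩⟩)
    rw [this]
    exact card_maximal_modEq_one hG hnc
  obtain ⟨C, hC, hCc⟩ := hex
  obtain ⟨a, hCa⟩ := hCc.exists_generator
  have ha : orderOf (a : G) = p ^ m := by
    rw [Subgroup.orderOf_coe, orderOf_eq_card_of_forall_mem_zpowers hCa, card_of_index hm hC]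
  refine congrArg (· % p) (card_noncyclic_maximal_eq_one hm hm2 hnc ha ?_)
  have hCn : (Subgroup.zpowers (a : G)).Normal :=
    normal_of_coatom hG (isCoatom_of_index_eq (index_zpowers hm ha))
  set D := Subgroup.zpowers ((a : G) ^ p ^ 2) with hD
  haveI hDn : D.Normal := zpowers_pow_normal _ hCn
  have hQ : Nat.card (G ⧸ D) = p ^ 3 := by
    have h := D.card_eq_card_quotient_mul_card_subgroup
    rw [hm, hD, Nat.card_zpowers,
      orderOf_pow_of_dvd (pow_ne_zero 2 hp.ne_zero) (ha ▸ pow_dvd_pow p hm2), ha,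
      Nat.pow_div hm2 hp.pos] at h
    refine Nat.eq_of_mul_eq_mul_right (pow_pos hp.pos (m - 2)) (h.symm.trans ?_)
    rw [← pow_add]; congr 1; omega
  have hQG : IsPGroup p (G ⧸ D) := IsPGroup.of_card hQ
  have hQle : Nat.card (commutator (G ⧸ D)) ∣ p := by
    obtain ⟨j, hj⟩ := IsPGroup.iff_card.1 (hQG.to_subgroup (commutator (G ⧸ D)))
    have h := card_lowerCentralSeries_le hQ 0
    rw [Subgroup.top_lowerCentralSeries_one, hj] at h
    rw [hj]
    exact (pow_dvd_pow p ((Nat.pow_le_pow_iff_right hp.one_lt).1 h)).trans (by norm_num)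
  have hQc : commutator (G ⧸ D) ≤ Subgroup.center (G ⧸ D) := by
    rcases (Nat.dvd_prime hp).1 hQle with h1 | h1
    · rw [Subgroup.card_eq_one] at h1; rw [h1]; exact bot_le
    · exact le_center_of_card_eq hQG _ h1
  have hQp : ∀ u v : G ⧸ D, ⁅u, v⁆ ^ p = 1 := by
    intro u v
    have hmem : ⁅u, v⁆ ∈ commutator (G ⧸ D) :=
      Subgroup.commutator_mem_commutator (Subgroup.mem_top u) (Subgroup.mem_top v)
    refine orderOf_dvd_iff_pow_eq_one.1 ?_
    have h := orderOf_dvd_natCard (⟨_, hmem⟩ : commutator (G ⧸ D))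
    rw [Subgroup.orderOf_mk] at h
    exact h.trans hQle
  intro x y
  rw [← QuotientGroup.eq_one_iff]
  show QuotientGroup.mk' D _ = 1
  rw [map_mul, map_inv, map_mul, map_pow, map_pow, map_pow, map_mul, inv_mul_eq_one]
  rcases hp.eq_two_or_odd' with h2 | hodd
  · subst h2
    have hcomm : ∀ u v : G ⧸ D, u * v = v * u := by
      by_contra hne
      refine h4 rfl ?_
      have h1 : commutator (G ⧸ D) = (commutator G).map (QuotientGroup.mk' D) := by
        rw [commutator_def, commutator_def, Subgroup.map_commutator, ← MonoidHom.range_eq_map,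
          MonoidHom.range_eq_top.2 (QuotientGroup.mk'_surjective D)]
      have hnb : ¬ commutator G ≤ D := by
        intro hle
        refine hne fun u v => ?_
        rw [← commutatorElement_eq_one_iff_mul_comm, ← Subgroup.mem_bot]
        have hb : commutator (G ⧸ D) = ⊥ := by
          rw [h1, Subgroup.map_eq_bot_iff, QuotientGroup.ker_mk']; exact hle
        rw [← hb]
        exact Subgroup.commutator_mem_commutator (Subgroup.mem_top u) (Subgroup.mem_top v)
      have hsq : Subgroup.zpowers ((a : G) ^ 2) = frattini G := by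
        refine Subgroup.eq_of_le_of_card_ge
          (Subgroup.zpowers_le.2 (pow_prime_mem_frattini hG _)) ?_
        have hi : ¬ (frattini G).index ∣ 2 := fun hd => hnc (isCyclic_of_frattini_index hd)
        obtain ⟨d, hd⟩ := hG.index (frattini G)
        rw [hd] at hi
        have hd2 := two_le_of_index_not_dvd hi
        have h := (frattini G).card_mul_index
        obtain ⟨j, hj⟩ := IsPGroup.iff_card.1 (hG.to_subgroup (frattini G))
        rw [hd, hm, hj, ← pow_add] at h
        have := Nat.pow_right_injective le_rfl h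
        rw [hj, Nat.card_zpowers, orderOf_pow_of_dvd two_ne_zero (ha ▸ dvd_pow_self 2 (by omega)),
          ha]
        calc 2 ^ j ≤ 2 ^ (m - 1) := Nat.pow_le_pow_right two_pos (by omega)
          _ = _ := by rw [← Nat.pow_div (show 1 ≤ m by omega) two_pos, pow_one]
      have ha2 : orderOf ((a : G) ^ 2) = 2 ^ (m - 1) := by
        rw [orderOf_pow_of_dvd two_ne_zero (ha ▸ dvd_pow_self 2 (by omega)), ha,
          ← Nat.pow_div (show 1 ≤ m by omega) two_pos, pow_one]
      have heq := eq_zpowers_of_not_le ha2 (H := commutator G)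
        ((commutator_le_frattini hG).trans hsq.ge)
        (by rwa [← pow_mul, show 2 * 2 = 2 ^ 2 by norm_num])
      have h := (commutator G).card_mul_index
      rw [heq, Nat.card_zpowers, ha2, hm, show m + 1 = m - 1 + 2 by omega, pow_add] at h
      rw [heq]
      exact Nat.eq_of_mul_eq_mul_left (pow_pos two_pos _) h
    exact (Commute.mul_pow (hcomm _ _) 2)
  · exact mul_pow_of_odd' (commutatorElement_mem_center_iff_commutator_le.2 hQc) _ _ hodd (hQp _ _)

/-- A group of order sixteen has not a commutator subgroup and a centre both of order two. -/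
theorem index_center_le_four {Q : Type*} [Group Q] [Finite Q] (hQ : Nat.card Q = 16)
    (hc : Nat.card (commutator Q) = 2) : (Subgroup.center Q).index = 4 := by
  haveI : Fact (Nat.Prime 2) := ⟨Nat.prime_two⟩
  have hQG : IsPGroup 2 Q := IsPGroup.of_card (n := 4) (by rw [hQ]; norm_num)
  have hcz : commutator Q ≤ Subgroup.center Q := le_center_of_card_eq hQG _ hc
  obtain ⟨a, b, hab⟩ : ∃ a b : Q, a * b ≠ b * a := by
    by_contra hne
    push_neg at hne
    have hb : commutator Q = ⊥ := by
      rw [commutator_def, eq_bot_iff, Subgroup.commutator_le]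
      exact fun u _ v _ => Subgroup.mem_bot.2 (commutatorElement_eq_one_iff_mul_comm.2 (hne u v))
    rw [hb, Subgroup.card_bot] at hc
    omega
  have hnotcyc : ∀ (H : Subgroup Q) (x y : Q), x ∈ H → y ∈ H → x * y ≠ y * x →
      ¬ (Subgroup.center H).index ∣ 2 := by
    intro H x y hx hy hxy hd
    haveI : IsCyclic (H ⧸ Subgroup.center H) :=
      isCyclic_of_card_dvd_prime (p := 2) (by rwa [← Subgroup.index_eq_card])
    have : IsMulCommutative H := (MonoidHom.isMulCommutative_of_isCyclic_of_ker_le_center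
      (QuotientGroup.mk' (Subgroup.center H)) (by rw [QuotientGroup.ker_mk']))
    exact hxy (congrArg Subtype.val (this.is_comm.comm ⟨x, hx⟩ ⟨y, hy⟩))
  have h16 := (Subgroup.center Q).card_mul_index
  rw [hQ] at h16
  have hdvd : Nat.card (Subgroup.center Q) ∣ 2 ^ 4 := by
    exact ⟨(Subgroup.center Q).index, by rw [h16]; norm_num⟩
  obtain ⟨j, hj, hjc⟩ := (Nat.dvd_prime_pow Nat.prime_two).1 hdvd
  have h2c : 2 ∣ Nat.card (Subgroup.center Q) := hc ▸ Subgroup.card_dvd_of_le hcz
  have htop : ¬ (Subgroup.center Q).index ∣ 2 := by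
    intro hd
    haveI : IsCyclic (Q ⧸ Subgroup.center Q) :=
      isCyclic_of_card_dvd_prime (p := 2) (by rwa [← Subgroup.index_eq_card])
    have : IsMulCommutative Q := (MonoidHom.isMulCommutative_of_isCyclic_of_ker_le_center
      (QuotientGroup.mk' (Subgroup.center Q)) (by rw [QuotientGroup.ker_mk']))
    exact hab (this.is_comm.comm a b)
  have hj2 : j = 1 ∨ j = 2 := by
    rw [hjc] at h16 h2c
    interval_cases j
    · norm_num at h2c
    · omega
    · omega
    · exact absurd (show (Subgroup.center Q).index ∣ 2 by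
        rw [show (Subgroup.center Q).index = 16 / 2 ^ 3 by norm_num at h16 ⊢; omega]; norm_num) htop
    · exact absurd (show (Subgroup.center Q).index ∣ 2 by
        rw [show (Subgroup.center Q).index = 1 by norm_num at h16 ⊢; omega]; norm_num) htop
  rcases hj2 with rfl | rfl
  swap
  · rw [hjc] at h16; norm_num at h16; omega
  exfalso
  have hzc : Subgroup.center Q = commutator Q :=
    (Subgroup.eq_of_le_of_card_ge hcz (by rw [hc, hjc, pow_one])).symm
  -- the common centralizer of `a` and `b`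
  have hg : ∀ u v : Q, ⁅u, v⁆ ∈ Subgroup.center Q :=
    commutatorElement_mem_center_iff_commutator_le.2 hcz
  have hindex : ∀ x : Q, (Subgroup.centralizer ({x} : Set Q)).index ≤ 2 := by
    intro x
    rw [← commHom_ker hg x, Subgroup.index_ker]
    refine le_trans (Subgroup.card_le_card_group _) ?_
    rw [hjc, pow_one]
  set S := Subgroup.centralizer ({a} : Set Q) ⊓ Subgroup.centralizer ({b} : Set Q)
  have hS : 4 ≤ Nat.card S := by
    have h1 := Subgroup.index_inf_le (H := Subgroup.centralizer ({a} : Set Q))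
      (K := Subgroup.centralizer ({b} : Set Q))
    have h2 := S.card_mul_index
    have h3 : S.index ≤ 4 := h1.trans (Nat.mul_le_mul (hindex a) (hindex b))
    rw [hQ] at h2
    nlinarith
  obtain ⟨z, hzS, hzc'⟩ : ∃ z ∈ S, z ∉ Subgroup.center Q := by
    by_contra hne
    push_neg at hne
    have := Subgroup.card_le_of_le (hne : S ≤ Subgroup.center Q)
    rw [hjc] at this
    omega
  set H := Subgroup.closure ({a, b} : Set Q) with hH
  have haH : a ∈ H := Subgroup.subset_closure (by simp)
  have hbH : b ∈ H := Subgroup.subset_closure (by simp)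
  have hzH : ∀ h ∈ H, h * z = z * h := by
    intro h hh
    have : H ≤ Subgroup.centralizer ({z} : Set Q) := by
      rw [hH, Subgroup.closure_le]
      rintro u (rfl | rfl) <;> rw [SetLike.mem_coe, Subgroup.mem_centralizer_singleton_iff]
      · exact (Subgroup.mem_centralizer_singleton_iff.1 hzS.1).symm
      · exact (Subgroup.mem_centralizer_singleton_iff.1 hzS.2).symm
    exact Subgroup.mem_centralizer_singleton_iff.1 (this hh)
  have hnH := hnotcyc H a b haH hbH hab
  have hHcard := (Subgroup.center H).card_mul_index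
  obtain ⟨i, hi, hiH⟩ := (Nat.dvd_prime_pow Nat.prime_two).1
    (show Nat.card H ∣ 2 ^ 4 by rw [show (2 : ℕ) ^ 4 = Nat.card Q by rw [hQ]; norm_num];
                                exact H.card_subgroup_dvd_card)
  have hgt : H ⊔ Subgroup.zpowers z = ⊤ → False := by
    intro htop'
    refine hzc' (Subgroup.mem_center_iff.2 fun g => ?_)
    have : (⊤ : Subgroup Q) ≤ Subgroup.centralizer ({z} : Set Q) := by
      rw [← htop', sup_le_iff]
      exact ⟨fun h hh => Subgroup.mem_centralizer_singleton_iff.2 (hzH h hh),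
        Subgroup.zpowers_le.2 (Subgroup.mem_centralizer_singleton_iff.2 rfl)⟩
    exact Subgroup.mem_centralizer_singleton_iff.1 (this (Subgroup.mem_top g))
  -- `H` is non-abelian, of order at least eight
  obtain ⟨t, ht, htH⟩ := (Nat.dvd_prime_pow Nat.prime_two).1
    (show Nat.card (Subgroup.center H) ∣ 2 ^ i by
      rw [← hiH]; exact (Subgroup.center H).card_subgroup_dvd_card)
  rw [htH, hiH] at hHcard
  have hcH : Subgroup.center Q ≤ H := by
    rw [hzc]
    have hmem : ⁅a, b⁆ ∈ commutator Q :=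
      Subgroup.commutator_mem_commutator (Subgroup.mem_top a) (Subgroup.mem_top b)
    have heq : Subgroup.zpowers ⁅a, b⁆ = commutator Q := by
      refine Subgroup.eq_of_le_of_card_ge (Subgroup.zpowers_le.2 hmem) ?_
      rw [hc, Nat.card_zpowers]
      exact Nat.succ_le_of_lt ((orderOf_pos _).nat_succ_le.lt_of_ne fun h1 =>
        hab (commutatorElement_eq_one_iff_mul_comm.1 (orderOf_eq_one_iff.1 h1.symm)))
    rw [← heq, Subgroup.zpowers_le, commutatorElement_def]
    exact mul_mem (mul_mem (mul_mem haH hbH) (inv_mem haH)) (inv_mem hbH)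
  have hcH2 : 2 ≤ Nat.card (Subgroup.center H) := by
    have h1 : (Subgroup.center Q).subgroupOf H ≤ Subgroup.center H := fun u hu =>
      Subgroup.mem_center_iff.2 fun g => Subtype.ext (Subgroup.mem_center_iff.1 hu g.1)
    have h2 := Subgroup.card_le_of_le h1
    rwa [Nat.card_congr (Subgroup.subgroupOfEquivOfLe hcH).toEquiv, hjc, pow_one] at h2
  rw [htH] at hcH2
  have hit : t + 2 ≤ i := by
    by_contra hlt
    refine hnH ?_
    have h1 : 2 ^ t * 2 ^ (i - t) = 2 ^ i := by rw [← pow_add]; congr 1; omega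
    rw [Nat.eq_of_mul_eq_mul_left (pow_pos two_pos t) (hHcard.trans h1.symm)]
    exact (pow_dvd_pow 2 (show i - t ≤ 1 by omega)).trans (by norm_num)
  have ht1 : 1 ≤ t := by by_contra h; rw [show t = 0 by omega] at hcH2; norm_num at hcH2
  by_cases hzmem : z ∈ H
  · have hzZ : (⟨z, hzmem⟩ : H) ∈ Subgroup.center H :=
      Subgroup.mem_center_iff.2 fun g => Subtype.ext (hzH g.1 g.2)
    rcases (show i = 3 ∨ i = 4 by omega) with rfl | rfl
    · have ht' : t = 1 := by omega
      have h1 : (Subgroup.center Q).subgroupOf H = Subgroup.center H := by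
        refine Subgroup.eq_of_le_of_card_ge (fun u hu =>
          Subgroup.mem_center_iff.2 fun g => Subtype.ext (Subgroup.mem_center_iff.1 hu g.1)) ?_
        rw [htH, Nat.card_congr (Subgroup.subgroupOfEquivOfLe hcH).toEquiv, hjc, ht']
      rw [← h1] at hzZ
      exact hzc' hzZ
    · refine hgt (top_unique ?_)
      rw [← Subgroup.eq_top_of_card_eq H (by rw [hiH, hQ]; norm_num)]
      exact le_sup_left
  · refine hgt (Subgroup.eq_top_of_card_eq _ ?_)
    have hlt : H < H ⊔ Subgroup.zpowers z := lt_of_le_of_ne le_sup_left fun he =>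
      hzmem (he ▸ Subgroup.mem_sup_right (Subgroup.mem_zpowers z))
    have h8 : 8 ≤ Nat.card H := by
      rw [hiH]; exact le_trans (by norm_num) (Nat.pow_le_pow_right two_pos (show 3 ≤ i by omega))
    have h9 := Set.ncard_lt_ncard (SetLike.coe_ssubset_coe.2 hlt) (Set.toFinite _)
    rw [← Nat.card_coe_set_eq, ← Nat.card_coe_set_eq] at h9
    change Nat.card H < Nat.card ↥(H ⊔ Subgroup.zpowers z) at h9
    obtain ⟨u, hu⟩ := (H ⊔ Subgroup.zpowers z).card_subgroup_dvd_card
    rw [hQ] at hu
    have : u < 2 := by nlinarith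
    interval_cases u <;> omega

end CfsgLib.PGroup
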