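import Cfsg.Agent.PGroup.Frattini
import Cfsg.Agent.PGroup54.WielandtCount

/-!
Counting subgroups of prime power order modulo `p ^ 2`: the enumeration through maximal subgroups.
-/

set_option autoImplicit false

open scoped commutatorElement

namespace CfsgLib.PGroup

variable {p : ℕ} [Fact p.Prime]

/-- The number of subgroups of order `n`. -/
noncomputable def numSub (G : Type*) [Group G] (n : ℕ) : ℕ :=
  Nat.card {H : Subgroup G // Nat.card H = n}

theorem numSub_congr {G K : Type*} [Group G] [Group K] (e : G ≃* K) (n : ℕ) :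
    numSub G n = numSub K n :=
  Nat.card_congr ((MulEquiv.mapSubgroup e).toEquiv.subtypeEquiv fun H => by
    show Nat.card H = n ↔ Nat.card (H.map e.toMonoidHom) = n
    rw [Subgroup.card_map_of_injective e.injective])

theorem numSub_eq_card_le {G : Type*} [Group G] (M : Subgroup G) (n : ℕ) :
    numSub M n = Nat.card {H : {H : Subgroup G // Nat.card H = n} // H.1 ≤ M} :=
  Nat.card_congr
    { toFun := fun K => ⟨⟨K.1.map M.subtype,
        (Subgroup.card_map_of_injective M.subtype_injective).trans K.2⟩, Subgroup.map_subtype_le _⟩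
      invFun := fun H => ⟨H.1.1.subgroupOf M, by
        rw [Nat.card_congr (Subgroup.subgroupOfEquivOfLe H.2).toEquiv]; exact H.1.2⟩
      left_inv := fun K => Subtype.ext (K.1.comap_map_eq_self_of_injective M.subtype_injective)
      right_inv := fun H => Subtype.ext (Subtype.ext (Subgroup.map_subgroupOf_eq_of_le H.2)) }

/-- An elementary group of order `p ^ d` has `(p ^ d - 1) / (p - 1)` subgroups of order `p`. -/
theorem numSub_prime_mul {V : Type*} [Group V] [Finite V] (hexp : ∀ v : V, v ^ p = 1) :
    numSub V p * (p - 1) = Nat.card V - 1 := by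
  classical
  haveI := Fintype.ofFinite V
  haveI := Fintype.ofFinite {H : Subgroup V // Nat.card H = p}
  let f : {v : V // v ≠ 1} → {H : Subgroup V // Nat.card H = p} := fun v =>
    ⟨Subgroup.zpowers (v : V), by rw [Nat.card_zpowers, orderOf_eq_prime (hexp v) v.2]⟩
  have hcard : Nat.card {v : V // v ≠ 1} = Nat.card V - 1 := by
    rw [Nat.card_eq_fintype_card, Fintype.card_subtype_compl, Fintype.card_subtype_eq,
      Nat.card_eq_fintype_card]
  have hfib : ∀ H, Nat.card {v // f v = H} = p - 1 := by
    intro H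
    have e : {v // f v = H} ≃ {h : H.1 // h ≠ 1} :=
      { toFun := fun v => ⟨⟨(v.1 : V), by
            have h1 : Subgroup.zpowers (v.1 : V) = H.1 := congrArg Subtype.val v.2
            exact h1.le (Subgroup.mem_zpowers _)⟩, fun h => v.1.2 (congrArg Subtype.val h)⟩
        invFun := fun h => ⟨⟨(h.1 : V), fun h1 => h.2 (Subtype.ext h1)⟩, by
            refine Subtype.ext ?_
            refine Subgroup.eq_of_le_of_card_ge (Subgroup.zpowers_le.2 h.1.2) ?_
            change Nat.card H.1 ≤ Nat.card (Subgroup.zpowers (h.1 : V))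
            rw [H.2, Nat.card_zpowers,
              orderOf_eq_prime (hexp _) (fun h1 => h.2 (Subtype.ext h1))]⟩
        left_inv := fun v => rfl
        right_inv := fun h => rfl }
    rw [Nat.card_congr e]
    haveI := Fintype.ofFinite H.1
    rw [Nat.card_eq_fintype_card, Fintype.card_subtype_compl, Fintype.card_subtype_eq,
      ← Nat.card_eq_fintype_card, H.2]
  rw [← hcard, ← Nat.card_congr (Equiv.sigmaFiberEquiv f), Nat.card_sigma,
    Finset.sum_congr rfl (fun H _ => hfib H), Finset.sum_const, Finset.card_univ, smul_eq_mul,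
    numSub, Nat.card_eq_fintype_card]

/-- Duality: as many subgroups of index `n` as of order `n`. -/
theorem card_index_eq_numSub (V : Type*) [CommGroup V] [Finite V] (n : ℕ) :
    Nat.card {H : Subgroup V // H.index = n} = numSub V n := by
  haveI : NeZero (Monoid.exponent V : ℂ) := ⟨Nat.cast_ne_zero.2 Monoid.exponent_ne_zero_of_finite⟩
  obtain ⟨φ⟩ := CommGroup.monoidHom_mulEquiv_of_hasEnoughRootsOfUnity V ℂ
  refine Eq.trans ?_ (numSub_congr φ n)
  exact Nat.card_congr (((CommGroup.subgroupOrderIsoSubgroupMonoidHom V ℂ).toEquiv.trans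
    OrderDual.ofDual).subtypeEquiv fun H => by
      show H.index = n ↔ Nat.card (CommGroup.subgroupOrderIsoSubgroupMonoidHom V ℂ H).ofDual = n
      rw [CommGroup.card_subgroupOrderIsoSubgroupMonoidHom, ← Subgroup.index_eq_card])

variable {G : Type*} [Group G] [Finite G]

theorem card_index_over (N : Subgroup G) [N.Normal] (n : ℕ) :
    Nat.card {M : Subgroup G // N ≤ M ∧ M.index = n} =
      Nat.card {K : Subgroup (G ⧸ N) // K.index = n} := by
  refine (Nat.card_congr ?_).trans (Nat.card_congr
    ((QuotientGroup.comapMk'OrderIso N).toEquiv.subtypeEquiv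
      (p := fun K : Subgroup (G ⧸ N) => K.index = n) (q := fun M => M.1.index = n) fun K => by
        show K.index = n ↔ (K.comap (QuotientGroup.mk' N)).index = n
        rw [Subgroup.index_comap_of_surjective _ (QuotientGroup.mk'_surjective N)])).symm
  exact (Equiv.subtypeSubtypeEquivSubtypeInter (fun M : Subgroup G => N ≤ M)
    (fun M => M.index = n)).symm

theorem normal_of_frattini_le (hG : IsPGroup p G) {N : Subgroup G} (h : frattini G ≤ N) :
    N.Normal :=
  Subgroup.Normal.of_commutator_le _ ((commutator_le_frattini hG).trans h)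

theorem quotient_comm_of_frattini_le (hG : IsPGroup p G) {N : Subgroup G} [N.Normal]
    (h : frattini G ≤ N) (a b : G ⧸ N) : a * b = b * a := by
  obtain ⟨a, rfl⟩ := QuotientGroup.mk'_surjective N a
  obtain ⟨b, rfl⟩ := QuotientGroup.mk'_surjective N b
  rw [← commutatorElement_eq_one_iff_mul_comm, ← map_commutatorElement]
  exact (QuotientGroup.eq_one_iff _).2 (h (commutatorElement_mem_frattini hG a b))

theorem quotient_pow_of_frattini_le (hG : IsPGroup p G) {N : Subgroup G} [N.Normal]
    (h : frattini G ≤ N) (a : G ⧸ N) : a ^ p = 1 := by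
  obtain ⟨a, rfl⟩ := QuotientGroup.mk'_surjective N a
  rw [← map_pow]
  exact (QuotientGroup.eq_one_iff _).2 (h (pow_prime_mem_frattini hG a))

omit [Fact p.Prime] in
theorem two_le_of_index_not_dvd {d : ℕ} (h : ¬ p ^ d ∣ p) : 2 ≤ d := by
  by_contra hc
  exact h ((pow_dvd_pow p (show d ≤ 1 by omega)).trans (by rw [pow_one]))

/-- The number of index `p` subgroups over a subgroup with elementary quotient of order at least
`p ^ 2` is `1 + p` modulo `p ^ 2`. -/
theorem card_maximal_over_modEq (hG : IsPGroup p G) {N : Subgroup G} (h : frattini G ≤ N)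
    (hN : ¬ N.index ∣ p) :
    Nat.card {M : Subgroup G // N ≤ M ∧ M.index = p} ≡ 1 + p [MOD p ^ 2] := by
  have hp : p.Prime := Fact.out
  haveI := normal_of_frattini_le hG h
  obtain ⟨d, hd⟩ := hG.index N
  rw [hd] at hN
  have hd2 := two_le_of_index_not_dvd hN
  letI : CommGroup (G ⧸ N) :=
    { (inferInstance : Group (G ⧸ N)) with mul_comm := quotient_comm_of_frattini_le hG h }
  rw [card_index_over, card_index_eq_numSub]
  have h1 := numSub_prime_mul (V := G ⧸ N) (p := p) (quotient_pow_of_frattini_le hG h)
  rw [← Subgroup.index_eq_card, hd] at h1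
  refine Nat.ModEq.cancel_right_of_coprime (c := p - 1) ?_ ?_
  · have : Nat.Coprime p (p - 1) := by
      refine hp.coprime_iff_not_dvd.2 fun hd1 => ?_
      have h2 := hp.two_le
      have := Nat.le_of_dvd (by omega) hd1
      omega
    exact Nat.Coprime.pow_left 2 this
  · refine Nat.ModEq.add_right_cancel' 1 ?_
    rw [h1, Nat.sub_add_cancel (Nat.one_le_pow _ _ hp.pos),
      show (1 + p) * (p - 1) + 1 = p ^ 2 by
        obtain ⟨q, rfl⟩ : ∃ q, p = q + 1 := ⟨p - 1, by have := hp.two_le; omega⟩
        rw [Nat.add_sub_cancel]; ring]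
    exact ((Nat.modEq_zero_iff_dvd.2 (pow_dvd_pow p hd2)).trans
      (Nat.modEq_zero_iff_dvd.2 dvd_rfl).symm)

/-- The number of index `p ^ 2` subgroups over a subgroup with elementary quotient of order at
least `p ^ 2` is `1` modulo `p`. -/
theorem card_index_sq_over_modEq (hG : IsPGroup p G) {N : Subgroup G} (h : frattini G ≤ N)
    (hN : ¬ N.index ∣ p) :
    Nat.card {M : Subgroup G // N ≤ M ∧ M.index = p ^ 2} ≡ 1 [MOD p] := by
  haveI := normal_of_frattini_le hG h
  obtain ⟨d, hd⟩ := hG.index N
  rw [hd] at hN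
  have hd2 := two_le_of_index_not_dvd hN
  letI : CommGroup (G ⧸ N) :=
    { (inferInstance : Group (G ⧸ N)) with mul_comm := quotient_comm_of_frattini_le hG h }
  rw [card_index_over, card_index_eq_numSub]
  exact CfsgLib.PGroup54.card_subgroup_modEq_one p 2 Fact.out
    (by rw [← Subgroup.index_eq_card, hd]; exact pow_dvd_pow p hd2)

omit [Fact p.Prime] in
theorem sum_numSub_eq {ι : Type*} [Fintype ι] (M : ι → Subgroup G) (n : ℕ)
    [Fintype {H : Subgroup G // Nat.card H = n}] :
    ∑ i, numSub (M i) n = ∑ H : {H : Subgroup G // Nat.card H = n}, Nat.card {i // H.1 ≤ M i} := by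
  classical
  simp only [numSub_eq_card_le, Nat.card_eq_fintype_card, Fintype.card_subtype, Finset.card_filter]
  exact Finset.sum_comm

omit [Fact p.Prime] in
theorem frattini_le_of_index (hG : IsPGroup p G) [Fact p.Prime] {M : Subgroup G}
    (hM : M.index = p) : frattini G ≤ M :=
  frattini_le_coatom (isCoatom_of_index_eq hM)

/-- The number of maximal subgroups of a non-cyclic `p`-group is `1 + p` modulo `p ^ 2`. -/
theorem card_maximal_modEq (hG : IsPGroup p G) (hnc : ¬ IsCyclic G) :
    Nat.card {M : Subgroup G // M.index = p} ≡ 1 + p [MOD p ^ 2] := by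
  have h := card_maximal_over_modEq hG (le_refl (frattini G))
    (fun hd => hnc (isCyclic_of_frattini_index hd))
  have e : Nat.card {M : Subgroup G // M.index = p} =
      Nat.card {M : Subgroup G // frattini G ≤ M ∧ M.index = p} :=
    Nat.card_congr (Equiv.subtypeEquivRight fun M =>
      ⟨fun hM => ⟨frattini_le_of_index hG hM, hM⟩, fun hM => hM.2⟩)
  rwa [e]

theorem numSub_index_prime {m : ℕ} (hm : Nat.card G = p ^ (m + 1)) :
    numSub G (p ^ m) = Nat.card {M : Subgroup G // M.index = p} := by
  have hp : p.Prime := Fact.out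
  refine Nat.card_congr (Equiv.subtypeEquivRight fun H => ?_)
  have h := H.card_mul_index
  rw [hm, pow_succ] at h
  constructor
  · intro hH; rw [hH] at h; exact Nat.eq_of_mul_eq_mul_left (pow_pos hp.pos m) h
  · intro hH; rw [hH] at h; exact Nat.eq_of_mul_eq_mul_right hp.pos h

/-- Counting through the maximal subgroups: if every maximal subgroup has `1 + p` or `1`
subgroups of order `p ^ k` modulo `p ^ 2` according as it is good or not, then `G` has
`1 + p * #good` such subgroups modulo `p ^ 2`. -/
theorem numSub_modEq_of_maximal {m k : ℕ} (hm : Nat.card G = p ^ m) (hnc : ¬ IsCyclic G)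
    (hk : k + 2 ≤ m) (good : Subgroup G → Prop)
    (hgood : ∀ M : Subgroup G, M.index = p → good M → numSub M (p ^ k) ≡ 1 + p [MOD p ^ 2])
    (hbad : ∀ M : Subgroup G, M.index = p → ¬ good M → numSub M (p ^ k) ≡ 1 [MOD p ^ 2]) :
    numSub G (p ^ k) ≡ 1 + p * Nat.card {M : Subgroup G // M.index = p ∧ good M} [MOD p ^ 2] := by
  classical
  have hp : p.Prime := Fact.out
  have hG : IsPGroup p G := IsPGroup.of_card hm
  haveI := Fintype.ofFinite (Subgroup G)
  -- the double count over subgroups of index `p ^ 2` above the Frattini subgroup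
  have hA : Nat.card {H : {H : Subgroup G // Nat.card H = p ^ k} //
      ¬ (H.1 ⊔ frattini G).index ∣ p} ≡ 1 [MOD p] := by
    let ι := {N : Subgroup G // frattini G ≤ N ∧ N.index = p ^ 2}
    have h1 : ∑ N : ι, numSub N.1 (p ^ k) ≡ Fintype.card ι [MOD p] := by
      rw [← ZMod.natCast_eq_natCast_iff, Nat.cast_sum, Fintype.card_eq_sum_ones, Nat.cast_sum]
      refine Finset.sum_congr rfl fun N _ => ?_
      rw [ZMod.natCast_eq_natCast_iff]
      refine CfsgLib.PGroup54.card_subgroup_modEq_one p k hp ?_
      have h := N.1.card_mul_index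
      rw [N.2.2, hm] at h
      obtain ⟨j, hj⟩ := IsPGroup.iff_card.1 (hG.to_subgroup N.1)
      rw [hj, ← pow_add] at h
      rw [hj]
      exact pow_dvd_pow p (by have := Nat.pow_right_injective hp.two_le h; omega)
    have h2 : Fintype.card ι ≡ 1 [MOD p] := by
      rw [← Nat.card_eq_fintype_card]
      exact card_index_sq_over_modEq hG le_rfl fun hd => hnc (isCyclic_of_frattini_index hd)
    have h3 := sum_numSub_eq (fun N : ι => N.1) (p ^ k)
    have h4 : ∀ H : {H : Subgroup G // Nat.card H = p ^ k},
        Nat.card {N : ι // H.1 ≤ N.1} ≡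
          (if ¬ (H.1 ⊔ frattini G).index ∣ p then 1 else 0) [MOD p] := by
      intro H
      have e : Nat.card {N : ι // H.1 ≤ N.1} =
          Nat.card {N : Subgroup G // H.1 ⊔ frattini G ≤ N ∧ N.index = p ^ 2} :=
        Nat.card_congr ((Equiv.subtypeSubtypeEquivSubtypeInter
          (fun N : Subgroup G => frattini G ≤ N ∧ N.index = p ^ 2) (fun N => H.1 ≤ N)).trans
          (Equiv.subtypeEquivRight fun N => by rw [sup_le_iff]; tauto))
      rw [e]
      split_ifs with hd
      rotate_left
      · exact card_index_sq_over_modEq hG le_sup_right hd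
      · rw [Nat.card_eq_zero.2 (Or.inl ⟨fun N => ?_⟩)]
        have := Nat.le_of_dvd hp.pos ((N.2.2 ▸ Subgroup.index_dvd_of_le N.2.1).trans hd)
        have := hp.two_le
        nlinarith [sq p]
    rw [h3] at h1
    have h5 : ∑ H : {H : Subgroup G // Nat.card H = p ^ k}, Nat.card {N : ι // H.1 ≤ N.1} ≡
        ∑ H : {H : Subgroup G // Nat.card H = p ^ k},
          (if ¬ (H.1 ⊔ frattini G).index ∣ p then 1 else 0) [MOD p] := by
      rw [← ZMod.natCast_eq_natCast_iff, Nat.cast_sum, Nat.cast_sum]
      exact Finset.sum_congr rfl fun H _ => (ZMod.natCast_eq_natCast_iff _ _ _).2 (h4 H)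
    rw [Nat.card_eq_fintype_card, Fintype.card_subtype, Finset.card_filter]
    exact h5.symm.trans (h1.trans h2)
  -- the double count over maximal subgroups
  let μ := {M : Subgroup G // M.index = p}
  have hB : ∑ M : μ, numSub M.1 (p ^ k) ≡ numSub G (p ^ k) + p [MOD p ^ 2] := by
    rw [sum_numSub_eq (fun M : μ => M.1) (p ^ k)]
    have h4 : ∀ H : {H : Subgroup G // Nat.card H = p ^ k},
        Nat.card {M : μ // H.1 ≤ M.1} ≡
          1 + p * (if ¬ (H.1 ⊔ frattini G).index ∣ p then 1 else 0) [MOD p ^ 2] := by
      intro H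
      have e : Nat.card {M : μ // H.1 ≤ M.1} =
          Nat.card {M : Subgroup G // H.1 ⊔ frattini G ≤ M ∧ M.index = p} :=
        Nat.card_congr ((Equiv.subtypeSubtypeEquivSubtypeInter
          (fun M : Subgroup G => M.index = p) (fun M => H.1 ≤ M)).trans
          (Equiv.subtypeEquivRight fun M => by
            rw [sup_le_iff]
            exact ⟨fun h => ⟨⟨h.2, frattini_le_of_index hG h.1⟩, h.1⟩,
              fun h => ⟨h.2, h.1.1⟩⟩))
      rw [e]
      split_ifs with hd
      rotate_left
      · rw [mul_one]; exact card_maximal_over_modEq hG le_sup_right hd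
      · rw [mul_zero, add_zero]
        rcases (Nat.dvd_prime hp).1 hd with h1 | h1
        · exfalso
          rw [Subgroup.index_eq_one] at h1
          have htop : H.1 = ⊤ := frattini_nongenerating h1
          have := H.2
          rw [htop, Subgroup.card_top, hm] at this
          have := Nat.pow_right_injective hp.two_le this
          omega
        · refine congrArg (· % p ^ 2) (Nat.card_eq_one_iff_unique.2 ⟨⟨fun A B => ?_⟩, ⟨⟨_, le_rfl, h1⟩⟩⟩)
          have key : ∀ A : {M : Subgroup G // H.1 ⊔ frattini G ≤ M ∧ M.index = p},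
              H.1 ⊔ frattini G = A.1 := fun A => by
            refine Subgroup.eq_of_le_of_card_ge A.2.1 (le_of_eq ?_)
            have h3 := A.1.card_mul_index
            rw [← (H.1 ⊔ frattini G).card_mul_index, A.2.2, h1] at h3
            exact Nat.eq_of_mul_eq_mul_right hp.pos h3
          exact Subtype.ext ((key A).symm.trans (key B))
    have h5 : ∑ H : {H : Subgroup G // Nat.card H = p ^ k}, Nat.card {M : μ // H.1 ≤ M.1} ≡
        ∑ H : {H : Subgroup G // Nat.card H = p ^ k},
          (1 + p * (if ¬ (H.1 ⊔ frattini G).index ∣ p then 1 else 0)) [MOD p ^ 2] := by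
      rw [← ZMod.natCast_eq_natCast_iff, Nat.cast_sum, Nat.cast_sum]
      exact Finset.sum_congr rfl fun H _ => (ZMod.natCast_eq_natCast_iff _ _ _).2 (h4 H)
    refine h5.trans ?_
    rw [Finset.sum_add_distrib, ← Finset.mul_sum, ← Fintype.card_eq_sum_ones,
      ← Finset.card_filter, ← Fintype.card_subtype, ← Nat.card_eq_fintype_card,
      ← Nat.card_eq_fintype_card]
    refine Nat.ModEq.add_left _ ?_
    have := Nat.ModEq.mul_left' p hA
    rwa [mul_one, ← sq] at this
  have hC : ∑ M : μ, numSub M.1 (p ^ k) ≡
      1 + p + p * Nat.card {M : Subgroup G // M.index = p ∧ good M} [MOD p ^ 2] := by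
    have h6 : ∑ M : μ, numSub M.1 (p ^ k) ≡
        ∑ M : μ, (1 + p * if good M.1 then 1 else 0) [MOD p ^ 2] := by
      rw [← ZMod.natCast_eq_natCast_iff, Nat.cast_sum, Nat.cast_sum]
      refine Finset.sum_congr rfl fun M _ => (ZMod.natCast_eq_natCast_iff _ _ _).2 ?_
      split_ifs with hg
      · rw [mul_one]; exact hgood M.1 M.2 hg
      · rw [mul_zero, add_zero]; exact hbad M.1 M.2 hg
    refine h6.trans ?_
    rw [Finset.sum_add_distrib, ← Finset.mul_sum, ← Fintype.card_eq_sum_ones,
      ← Finset.card_filter, ← Fintype.card_subtype, ← Nat.card_eq_fintype_card,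
      ← Nat.card_eq_fintype_card]
    have e : Nat.card {M : μ // good M.1} = Nat.card {M : Subgroup G // M.index = p ∧ good M} :=
      Nat.card_congr (Equiv.subtypeSubtypeEquivSubtypeInter
        (fun M : Subgroup G => M.index = p) good)
    rw [e]
    exact Nat.ModEq.add_right _ (card_maximal_modEq hG hnc)
  have := hB.symm.trans hC
  rw [show 1 + p + p * Nat.card {M : Subgroup G // M.index = p ∧ good M} =
    1 + p * Nat.card {M : Subgroup G // M.index = p ∧ good M} + p by ring] at this
  exact Nat.ModEq.add_right_cancel' p this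

end CfsgLib.PGroup
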