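import Cfsg.Agent.PGroup.CountCyclic

/-!
Kulakoff's theorem on the number of subgroups of given prime power order modulo `p ^ 2`, and its
extension to arbitrary finite groups (P. Hall).
-/

set_option autoImplicit false

open scoped commutatorElement Pointwise

namespace CfsgLib.PGroup

section General

variable {p : ℕ} [Fact p.Prime] {G : Type*} [Group G] [Finite G]

theorem numSub_of_isCyclic [IsCyclic G] {n : ℕ} (hn : p ^ n ∣ Nat.card G) :
    numSub G (p ^ n) = 1 := by
  have hp : p.Prime := Fact.out
  classical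
  haveI := Fintype.ofFinite G
  obtain ⟨K, hK⟩ := Sylow.exists_subgroup_card_pow_prime p (G := G) hn
  rw [numSub, Nat.card_eq_one_iff_unique]
  refine ⟨⟨fun A B => ?_⟩, ⟨⟨K, hK⟩⟩⟩
  have key : ∀ A : {H : Subgroup G // Nat.card H = p ^ n}, (A.1 : Set G) = {x | x ^ p ^ n = 1} := by
    intro A
    refine Set.eq_of_subset_of_ncard_le (fun x hx => ?_) ?_ (Set.toFinite _)
    · have := pow_card_eq_one' (x := (⟨x, hx⟩ : A.1))
      rw [A.2] at this
      exact congrArg Subtype.val this
    · rw [Set.ncard_eq_toFinset_card', ← Nat.card_coe_set_eq]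
      refine le_trans ?_ A.2.ge
      rw [Set.toFinset_ofPred]
      exact IsCyclic.card_pow_eq_one_le (pow_pos hp.pos n)
  exact Subtype.ext (SetLike.coe_injective ((key A).trans (key B).symm))

theorem exists_eq_add_one_of_not_isCyclic {m : ℕ} (hm : Nat.card G = p ^ m) (hnc : ¬ IsCyclic G) :
    ∃ j, m = j + 2 := by
  refine ⟨m - 2, ?_⟩
  by_contra h
  refine hnc ?_
  rcases (show m = 0 ∨ m = 1 by omega) with rfl | rfl
  · haveI : Subsingleton G := (Nat.card_eq_one_iff_unique.1 (by rw [hm, pow_zero])).1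
    infer_instance
  · exact isCyclic_of_prime_card (by rw [hm, pow_one])

theorem mul_modEq_self_of_modEq_one {a : ℕ} (h : a ≡ 1 [MOD p]) :
    1 + p * a ≡ 1 + p [MOD p ^ 2] := by
  have := (Nat.ModEq.mul_left' p h).add_left 1
  rwa [mul_one, ← sq] at this

theorem mul_modEq_one_of_modEq_zero {a : ℕ} (h : a ≡ 0 [MOD p]) : 1 + p * a ≡ 1 [MOD p ^ 2] := by
  have := (Nat.ModEq.mul_left' p h).add_left 1
  rwa [mul_zero, add_zero, ← sq] at this

end General

/-- Kulakoff's theorem for odd primes. -/
theorem numSub_modEq_of_odd {p : ℕ} [Fact p.Prime] (hp2 : p ≠ 2) :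
    ∀ (m : ℕ) {G : Type*} [Group G] [Finite G], Nat.card G = p ^ m → ¬ IsCyclic G →
      ∀ k, 1 ≤ k → k < m → numSub G (p ^ k) ≡ 1 + p [MOD p ^ 2] := by
  intro m
  induction m using Nat.strong_induction_on with
  | _ m ih =>
  intro G _ _ hm hnc k hk1 hk2
  obtain ⟨j, rfl⟩ := exists_eq_add_one_of_not_isCyclic hm hnc
  have hG : IsPGroup p G := IsPGroup.of_card hm
  rcases (show k = j + 1 ∨ k + 2 ≤ j + 2 by omega) with rfl | hk
  · rw [numSub_index_prime hm]; exact card_maximal_modEq hG hnc
  refine (numSub_modEq_of_maximal hm hnc hk (fun M => ¬ IsCyclic M) (fun M hM hMc => ?_)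
    (fun M hM hMc => ?_)).trans ?_
  · exact ih (j + 1) (by omega) (card_of_index hm hM) hMc k hk1 (by omega)
  · rw [not_not] at hMc
    exact congrArg (· % p ^ 2)
      (numSub_of_isCyclic (card_of_index hm hM ▸ pow_dvd_pow p (show k ≤ j + 1 by omega)))
  · exact mul_modEq_self_of_modEq_one
      (card_noncyclic_maximal_modEq hm (by omega) hnc fun h => absurd h hp2)

section TwoGroups

variable {G : Type*} [Group G] [Finite G]

local instance : Fact (Nat.Prime 2) := ⟨Nat.prime_two⟩

theorem exists_maxType_frame_of_index {m : ℕ} (hm : Nat.card G = 2 ^ (m + 1)) (hm2 : 2 ≤ m)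
    (h4 : (commutator G).index = 4) :
    ∃ r s : ZMod (2 ^ m), CfsgLib.TwoGroup.MaxType m r ∧
      Nonempty (CfsgLib.TwoGroup.Frame G (2 ^ m) r s) := by
  rcases CfsgLib.TwoGroup.isMaxClassType_of_index_commutator (IsPGroup.of_card hm) h4 with h | h
  · have := Nat.pow_le_pow_right two_pos (show 3 ≤ m + 1 by omega)
    omega
  · obtain ⟨n, r, s, hn, hr, ⟨F⟩⟩ := h.exists_maxType_frame
    have := F.card_eq
    rw [hm, ← pow_succ'] at this
    have := Nat.pow_right_injective le_rfl this
    obtain rfl : m = n := by omega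
    exact ⟨r, s, hr, ⟨F⟩⟩

/-- The maximal subgroups of maximal class in a 2-group which is not of maximal class come in an
even number. -/
theorem card_maxClass_maximal_even {m : ℕ} (hm : Nat.card G = 2 ^ (m + 1)) (hm2 : 3 ≤ m)
    (h4 : (commutator G).index ≠ 4) :
    Nat.card {M : Subgroup G // M.index = 2 ∧ (commutator M).index = 4} ≡ 0 [MOD 2] := by
  by_cases hex : ∃ M : Subgroup G, M.index = 2 ∧ (commutator M).index = 4
  swap
  · rw [Nat.card_eq_zero.2 (Or.inl ⟨fun M => hex ⟨M.1, M.2⟩⟩)]
  obtain ⟨M, hM, hM4⟩ := hex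
  have hG : IsPGroup 2 G := IsPGroup.of_card hm
  haveI : M.Normal := normal_of_coatom hG (isCoatom_of_index_eq hM)
  have hMc : Nat.card M = 2 ^ m := card_of_index hm hM
  obtain ⟨m', rfl⟩ : ∃ m', m = m' + 1 := ⟨m - 1, by omega⟩
  obtain ⟨r, s, hr, ⟨F⟩⟩ := exists_maxType_frame_of_index hMc (by omega) hM4
  -- the commutator subgroup of `M`, in `G`
  have hWmap : (commutator M).map M.subtype = ⁅M, M⁆ := M.map_subtype_commutator
  have hWcard : Nat.card (⁅M, M⁆ : Subgroup G) = 2 ^ (m' - 1) := by
    rw [← hWmap, Subgroup.card_map_of_injective M.subtype_injective,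
      F.card_commutator_of_maxType (by omega) hr]
  have hWle : ⁅M, M⁆ ≤ commutator G := Subgroup.commutator_mono le_top le_top
  have hG' : commutator G = ⁅M, M⁆ := by
    refine le_antisymm ?_ hWle
    have hQ : Nat.card (G ⧸ ⁅M, M⁆) = 2 ^ 3 := by
      have h := (⁅M, M⁆ : Subgroup G).card_eq_card_quotient_mul_card_subgroup
      rw [hm, hWcard] at h
      refine Nat.eq_of_mul_eq_mul_right (pow_pos two_pos (m' - 1)) (h.symm.trans ?_)
      rw [← pow_add]; congr 1; omega
    by_contra hnle
    refine h4 ?_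
    rw [← CfsgLib.TwoGroup.index_commutator_quotient _ hWle]
    have hne : ¬ IsMulCommutative (G ⧸ ⁅M, M⁆) := fun hc =>
      hnle (Subgroup.Normal.quotient_commutative_iff_commutator_le.1 hc)
    obtain ⟨n, r', s', hn, hr', ⟨F'⟩⟩ :=
      (CfsgLib.TwoGroup.isMaxClassType_of_card_eight (by rw [hQ]; norm_num) hne).exists_maxType_frame
    exact F'.index_commutator_of_maxType (by omega) hr'
  have hcyc : IsCyclic (⁅M, M⁆ : Subgroup G) := by
    haveI := F.isCyclic_commutator
    rw [← hWmap]
    exact isCyclic_of_surjective _ ((Subgroup.equivMapOfInjective (commutator M) M.subtype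
      M.subtype_injective).surjective)
  obtain ⟨c, hc⟩ := hcyc.exists_generator
  have hc' : Subgroup.zpowers (c : G) = commutator G := by
    rw [hG']
    refine le_antisymm (Subgroup.zpowers_le.2 c.2) fun x hx => ?_
    obtain ⟨i, hi⟩ := Subgroup.mem_zpowers_iff.1 (hc ⟨x, hx⟩)
    exact Subgroup.mem_zpowers_iff.2 ⟨i, by simpa using congrArg Subtype.val hi⟩
  have hco : orderOf (c : G) = 2 ^ (m' - 1) := by rw [← Nat.card_zpowers, hc', hG', hWcard]
  set L := Subgroup.zpowers ((c : G) ^ 2) with hL
  haveI hLn : L.Normal := zpowers_pow_normal 2 (hc' ▸ inferInstanceAs (commutator G).Normal)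
  have hLG : L ≤ commutator G := by
    rw [← hc']; exact Subgroup.zpowers_le.2 (Subgroup.npow_mem_zpowers _ 2)
  have hcL : (c : G) ∉ L := by
    intro h
    have h1 := Subgroup.card_dvd_of_le (Subgroup.zpowers_le.2 h :
      Subgroup.zpowers (c : G) ≤ Subgroup.zpowers ((c : G) ^ 2))
    rw [Nat.card_zpowers, Nat.card_zpowers,
      orderOf_pow_of_dvd two_ne_zero (hco ▸ dvd_pow_self 2 (by omega)), hco] at h1
    have := Nat.le_of_dvd (Nat.div_pos (Nat.le_self_pow (by omega) 2) two_pos) h1
    have := Nat.one_le_pow (m' - 1) 2 two_pos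
    omega
  have hLcard : Nat.card L = 2 ^ (m' - 2) := by
    rw [hL, Nat.card_zpowers, orderOf_pow_of_dvd two_ne_zero (hco ▸ dvd_pow_self 2 (by omega)), hco]
    refine Nat.div_eq_of_eq_mul_left two_pos ?_
    rw [← pow_succ]; congr 1; omega
  have hQ16 : Nat.card (G ⧸ L) = 16 := by
    have h := L.card_eq_card_quotient_mul_card_subgroup
    rw [hm, hLcard] at h
    refine Nat.eq_of_mul_eq_mul_right (pow_pos two_pos (m' - 2)) (h.symm.trans ?_)
    rw [show (16 : ℕ) = 2 ^ 4 by norm_num, ← pow_add]; congr 1; omega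
  have hQ' : Nat.card (commutator (G ⧸ L)) = 2 := by
    have hidx : (commutator (G ⧸ L)).index = 8 := by
      rw [CfsgLib.TwoGroup.index_commutator_quotient L hLG]
      have h := (commutator G).card_mul_index
      rw [hG', hWcard, hm] at h
      rw [hG']
      refine Nat.eq_of_mul_eq_mul_left (pow_pos two_pos (m' - 1)) (h.trans ?_)
      rw [show (8 : ℕ) = 2 ^ 3 by norm_num, ← pow_add]; congr 1; omega
    have h := (commutator (G ⧸ L)).card_mul_index
    rw [hidx, hQ16] at h
    omega
  set R := (Subgroup.center (G ⧸ L)).comap (QuotientGroup.mk' L) with hR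
  have hRidx : R.index = 4 := by
    rw [hR, Subgroup.index_comap_of_surjective _ (QuotientGroup.mk'_surjective L)]
    exact index_center_le_four hQ16 hQ'
  have hQc : ∀ u v : G ⧸ L, ⁅u, v⁆ ∈ Subgroup.center (G ⧸ L) :=
    commutatorElement_mem_center_iff_commutator_le.2
      (le_center_of_card_eq (hG.to_quotient L) _ hQ')
  have hcomm2 : ∀ u v : G ⧸ L, ⁅u, v⁆ ^ 2 = 1 := by
    intro u v
    have hmem : ⁅u, v⁆ ∈ commutator (G ⧸ L) :=
      Subgroup.commutator_mem_commutator (Subgroup.mem_top u) (Subgroup.mem_top v)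
    have h := pow_card_eq_one' (x := (⟨_, hmem⟩ : commutator (G ⧸ L)))
    rw [hQ'] at h
    exact congrArg Subtype.val h
  have hPhiR : frattini G ≤ R := by
    refine frattini_le_of_elementary (p := 2) (fun u v => ?_) (fun u => ?_)
    · show QuotientGroup.mk' L ⁅u, v⁆ ∈ Subgroup.center _
      rw [map_commutatorElement]; exact hQc _ _
    · show QuotientGroup.mk' L (u ^ 2) ∈ Subgroup.center _
      rw [map_pow, Subgroup.mem_center_iff]
      intro g
      exact (commutatorElement_eq_one_iff_mul_comm.1
        ((commutatorElement_pow_left' hQc _ g 2).trans (hcomm2 _ _))).symm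
  have key : ∀ N : Subgroup G, N.index = 2 → (R ≤ N ↔ ¬ (commutator N).index = 4) := by
    intro N hN
    have hNn : N.Normal := normal_of_coatom hG (isCoatom_of_index_eq hN)
    have hNle : ⁅N, N⁆ ≤ commutator G := Subgroup.commutator_mono le_top le_top
    have h4iff : (commutator N).index = 4 ↔ ⁅N, N⁆ = commutator G := by
      have h := (commutator N).card_mul_index
      have h2 := card_of_index hm hN
      rw [h2, ← Subgroup.card_map_of_injective (K := commutator N) N.subtype_injective,
        N.map_subtype_commutator] at h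
      have h8 : (2 : ℕ) ^ (m' + 1) = 2 ^ (m' - 1) * 4 := by
        rw [show (4 : ℕ) = 2 ^ 2 by norm_num, ← pow_add]; congr 1; omega
      constructor
      · intro hi
        refine Subgroup.eq_of_le_of_card_ge hNle ?_
        rw [hi, h8] at h
        rw [hG', hWcard, Nat.eq_of_mul_eq_mul_right (by norm_num) h]
      · intro hi
        rw [hi, hG', hWcard, h8] at h
        exact Nat.eq_of_mul_eq_mul_left (pow_pos two_pos _) h
    constructor
    · intro hRN h
      rw [h4iff] at h
      apply hcL
      have hcN : (c : G) ∈ ⁅N, N⁆ := by rw [h, ← hc']; exact Subgroup.mem_zpowers _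
      refine (?_ : ⁅N, N⁆ ≤ L) hcN
      haveI : (R.subgroupOf N).Normal := by
        haveI := normal_of_frattini_le hG hPhiR
        exact inferInstance
      haveI : IsCyclic (N ⧸ R.subgroupOf N) := by
        refine isCyclic_of_prime_card (p := 2) ?_
        rw [← Subgroup.index_eq_card]
        have h1 := Subgroup.relIndex_mul_index hRN
        rw [hN, hRidx] at h1
        change R.relIndex N = 2
        omega
      rw [Subgroup.commutator_le]
      intro u hu v hv
      rw [← QuotientGroup.eq_one_iff]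
      show QuotientGroup.mk' L ⁅u, v⁆ = 1
      rw [map_commutatorElement]
      -- `N` is `R` together with one more element
      obtain ⟨t, ht⟩ := IsCyclic.exists_generator (α := N ⧸ R.subgroupOf N)
      obtain ⟨t, rfl⟩ := QuotientGroup.mk'_surjective _ t
      have hrep : ∀ w ∈ N, ∃ i : ℤ, QuotientGroup.mk' L ((t : G) ^ i)⁻¹ * QuotientGroup.mk' L w ∈
          Subgroup.center (G ⧸ L) := by
        intro w hw
        obtain ⟨i, hi⟩ := Subgroup.mem_zpowers_iff.1 (ht (QuotientGroup.mk' _ ⟨w, hw⟩))
        rw [← map_zpow] at hi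
        have := (QuotientGroup.eq (s := R.subgroupOf N)).1 hi
        exact ⟨i, by rw [← map_mul]; exact this⟩
      obtain ⟨i, hi⟩ := hrep u hu
      obtain ⟨k, hk⟩ := hrep v hv
      generalize hzu : QuotientGroup.mk' L ((t : G) ^ i)⁻¹ * QuotientGroup.mk' L u = zu at hi
      generalize hzv : QuotientGroup.mk' L ((t : G) ^ k)⁻¹ * QuotientGroup.mk' L v = zv at hk
      have eu : QuotientGroup.mk' L u = QuotientGroup.mk' L ((t : G) ^ i) * zu := by
        rw [← hzu, map_inv, mul_inv_cancel_left]
      have ev : QuotientGroup.mk' L v = QuotientGroup.mk' L ((t : G) ^ k) * zv := by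
        rw [← hzv, map_inv, mul_inv_cancel_left]
      rw [eu, ev, commutatorElement_eq_one_iff_commute]
      have hcu : ∀ g, Commute zu g := fun g => (Subgroup.mem_center_iff.1 hi g).symm
      have hcv : ∀ g, Commute zv g := fun g => (Subgroup.mem_center_iff.1 hk g).symm
      refine Commute.mul_left (Commute.mul_right ?_ (hcv _).symm) (hcu _)
      rw [map_zpow, map_zpow]
      exact Commute.zpow_zpow_self _ i k
    · intro hne
      by_contra hRN
      refine hne (h4iff.2 ?_)
      rw [← hc']
      refine eq_zpowers_of_not_le hco (hc' ▸ hNle) fun hle => hcL ?_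
      -- then the quotient would be abelian
      have hsup : R ⊔ N = ⊤ :=
        (isCoatom_of_index_eq hN).2 _ (right_lt_sup.2 hRN)
      have hab : commutator G ≤ L := by
        rw [commutator_def, Subgroup.commutator_le]
        intro u _ v _
        rw [← QuotientGroup.eq_one_iff]
        show QuotientGroup.mk' L ⁅u, v⁆ = 1
        rw [map_commutatorElement]
        haveI := hNn
        obtain ⟨ru, hru, nu, hnu, rfl⟩ :=
          Subgroup.mem_sup_of_normal_right.1 (hsup ▸ Subgroup.mem_top u)
        obtain ⟨rv, hrv, nv, hnv, rfl⟩ :=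
          Subgroup.mem_sup_of_normal_right.1 (hsup ▸ Subgroup.mem_top v)
        rw [commutatorElement_eq_one_iff_commute, map_mul, map_mul]
        have hcu : ∀ g, Commute (QuotientGroup.mk' L ru) g := fun g =>
          (Subgroup.mem_center_iff.1 hru g).symm
        have hcv : ∀ g, Commute (QuotientGroup.mk' L rv) g := fun g =>
          (Subgroup.mem_center_iff.1 hrv g).symm
        refine Commute.mul_left (hcu _) (Commute.mul_right (hcv _).symm ?_)
        rw [← commutatorElement_eq_one_iff_commute, ← map_commutatorElement]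
        exact (QuotientGroup.eq_one_iff _).2
          (hle (Subgroup.commutator_mem_commutator hnu hnv))
      exact hab (hc' ▸ Subgroup.mem_zpowers _)
  have hnc : ¬ IsCyclic G := fun h => by
    haveI := h
    have hb : commutator G = ⊥ := CfsgLib.TwoGroup.commutator_eq_bot_iff_comm.2 inferInstance
    rw [hb] at hc'
    exact hcL (by rw [Subgroup.zpowers_eq_bot.1 hc']; exact one_mem _)
  have htot := card_maximal_modEq_one hG hnc
  have hover : Nat.card {N : Subgroup G // R ≤ N ∧ N.index = 2} ≡ 1 [MOD 2] := by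
    refine ((card_maximal_over_modEq hG hPhiR (by rw [hRidx]; norm_num)).of_dvd
      (dvd_pow_self 2 two_ne_zero)).trans ?_
    decide
  have hsplit := card_maximal_split (p := 2) (G := G) (fun N => (commutator N).index = 4)
  have e : Nat.card {N : Subgroup G // R ≤ N ∧ N.index = 2} =
      Nat.card {N : Subgroup G // N.index = 2 ∧ ¬ (commutator N).index = 4} :=
    Nat.card_congr (Equiv.subtypeEquivRight fun N =>
      ⟨fun h => ⟨h.2, (key N h.2).1 h.1⟩, fun h => ⟨(key N h.1).2 h.2, h.1⟩⟩)
  rw [e] at hover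
  unfold Nat.ModEq at *
  omega

/-- The subgroups of a maximal class group: every maximal subgroup other than the cyclic one
behaves in the same way. -/
theorem card_good_maximal_even {m k : ℕ} (hm : Nat.card G = 2 ^ (m + 1)) (hm2 : 2 ≤ m)
    (h4 : (commutator G).index = 4) :
    Nat.card {M : Subgroup G // M.index = 2 ∧
      (¬ IsCyclic M ∧ ¬ (k + 2 ≤ m ∧ (commutator M).index = 4))} ≡ 0 [MOD 2] := by
  classical
  obtain ⟨r, s, hr, ⟨F⟩⟩ := exists_maxType_frame_of_index hm hm2 h4
  have hG : IsPGroup 2 G := IsPGroup.of_card hm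
  have hnc : ¬ IsCyclic G := fun h => by
    haveI := h
    exact hr.ne_one hm2 (by
      have := F.conj_y 1
      have hcm : F.y * F.e 1 = F.e 1 * F.y := mul_comm' (F.y) (F.e 1)
      rw [hcm, mul_one] at this
      exact (F.e_inj.1 (mul_right_cancel this)).symm)
  have hPhi : (frattini G).index = 4 := by
    have h1 : ¬ (frattini G).index ∣ 2 := fun hd => hnc (isCyclic_of_frattini_index hd)
    have h2 := Subgroup.index_dvd_of_le (commutator_le_frattini hG)
    rw [h4, show (4 : ℕ) = 2 ^ 2 by norm_num] at h2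
    obtain ⟨i, hi, hi2⟩ := (Nat.dvd_prime_pow Nat.prime_two).1 h2
    rw [hi2] at h1 ⊢
    rcases (show i = 0 ∨ i = 1 ∨ i = 2 by omega) with rfl | rfl | rfl
    · exact absurd (by norm_num) h1
    · exact absurd (by norm_num) h1
    · norm_num
  have he2 : F.e 2 ∈ frattini G := by
    rw [← mul_one (2 : ZMod (2 ^ m)), ← F.e_sq]; exact pow_prime_mem_frattini hG _
  have hrot : F.rot.index = 2 := F.index_rot
  -- every other maximal subgroup is given by an element outside the cyclic part
  have hother : ∀ N : Subgroup G, N.index = 2 → N ≠ F.rot →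
      (∀ j, F.e j ∈ N ↔ ∃ t, j = (2 : ZMod (2 ^ m)) ^ 1 * t) ∧ ∃ i, F.e i * F.y ∈ N := by
    intro N hN hne
    have hey : ∃ i, F.e i * F.y ∈ N := by
      refine (F.le_rot_or_exists_ey N).resolve_left fun hle => hne ?_
      refine Subgroup.eq_of_le_of_card_ge hle ?_
      rw [card_of_index hm hN, card_of_index hm hrot]
    refine ⟨fun j => ⟨fun hj => ?_, ?_⟩, hey⟩
    · obtain ⟨a, ha, ha'⟩ := F.exists_rot_part N
      obtain ⟨t, rfl⟩ := (ha' j).1 hj
      obtain ⟨i, hi⟩ := hey
      have := F.card_of_ey_mem ha ha' hi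
      rw [card_of_index hm hN] at this
      have := Nat.pow_right_injective le_rfl this
      obtain rfl : a = 1 := by omega
      exact ⟨t, rfl⟩
    · rintro ⟨t, rfl⟩
      rw [pow_one, mul_comm]
      exact F.e_mul_mem t (frattini_le_of_index hG hN he2)
  have hunif : ∀ N : Subgroup G, N.index = 2 → N ≠ F.rot →
      ((¬ IsCyclic N ∧ ¬ (k + 2 ≤ m ∧ (commutator N).index = 4)) ↔
        ((2 < m ∧ ¬ k + 2 ≤ m) ∨ (m = 2 ∧ s = 0 ∧ ¬ k + 2 ≤ m))) := by
    intro N hN hne
    obtain ⟨ha, i, hi⟩ := hother N hN hne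
    have hNc : Nat.card N = 2 ^ m := card_of_index hm hN
    have hNG : IsPGroup 2 N := IsPGroup.of_card hNc
    by_cases hm3 : 2 < m
    · obtain ⟨u, v, hu, hv⟩ := hr.exists_factor
      have hmem : F.e ((2 : ZMod (2 ^ m)) ^ 2) ∈ (⁅N, N⁆ : Subgroup G) := by
        have h1 := Subgroup.commutator_mem_commutator hi ((ha 2).2 ⟨1, by ring⟩)
        rw [F.commutator_ey_e] at h1
        have h2 := F.e_mul_mem v h1
        rwa [show v * ((r - 1) * 2) = (2 : ZMod (2 ^ m)) ^ 2 by linear_combination 2 * hv] at h2
      have hcard : 2 ^ (m - 2) ≤ Nat.card (commutator N) := by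
        rw [← Subgroup.card_map_of_injective (K := commutator N) N.subtype_injective,
          N.map_subtype_commutator, ← CfsgLib.TwoGroup.Frame.addOrderOf_two_pow (show 2 ≤ m by omega),
          ← F.orderOf_e, ← Nat.card_zpowers]
        exact Subgroup.card_le_of_le (Subgroup.zpowers_le.2 hmem)
      have hncN : ¬ IsMulCommutative N := fun hc => by
        rw [CfsgLib.TwoGroup.commutator_eq_bot_iff_comm.2 hc, Subgroup.card_bot] at hcard
        have := Nat.one_lt_pow (show m - 2 ≠ 0 by omega) one_lt_two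
        omega
      have hge := CfsgLib.TwoGroup.four_le_index_commutator hNG hncN
      have h := (commutator N).card_mul_index
      have h5 : (2 : ℕ) ^ m = 2 ^ (m - 2) * 4 := by
        rw [show (4 : ℕ) = 2 ^ 2 by norm_num, ← pow_add]; congr 1; omega
      rw [hNc, h5] at h
      have hidx : (commutator N).index = 4 := by
        refine le_antisymm ?_ hge
        have h1 := Nat.mul_le_mul_right (commutator N).index hcard
        rw [h] at h1
        exact Nat.le_of_mul_le_mul_left h1 (pow_pos two_pos _)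
      have hcy : ¬ IsCyclic N := fun hc => hncN (@IsCyclic.isMulCommutative _ _ hc)
      simp only [hidx, hcy, and_true, not_false_eq_true, true_and, hm3]
      constructor
      · exact fun h => Or.inl h
      · rintro (h | ⟨h, -⟩)
        · exact h
        · omega
    · obtain rfl : m = 2 := by omega
      have hr1 : r = -1 := hr.resolve_right (by omega)
      have hsq : ∀ j, (F.e j * F.y) ^ 2 = F.e s := by
        intro j; rw [F.ey_sq]; congr 1; linear_combination j * hr1
      have h4N : (commutator N).index = 4 := by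
        haveI := IsPGroup.isMulCommutative_of_card_eq_prime_sq hNc
        rw [CfsgLib.TwoGroup.commutator_eq_bot_iff_comm.2 inferInstance, Subgroup.index_bot, hNc]
        norm_num
      have hiff : IsCyclic N ↔ s ≠ 0 := by
        constructor
        · intro hc hs
          obtain ⟨g, hg⟩ := hc.exists_generator
          have ho : orderOf (g : G) = 4 := by
            rw [Subgroup.orderOf_coe, orderOf_eq_card_of_forall_mem_zpowers hg, hNc]; norm_num
          have hg2 : (g : G) ^ 2 = 1 := by
            obtain ⟨j, hj | hj⟩ := F.cover (g : G)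
            · have hgj := hj ▸ g.2
              obtain ⟨t, rfl⟩ := (ha j).1 hgj
              rw [hj, F.e_sq, F.e_eq_one]
              have h22 := CfsgLib.TwoGroup.two_pow_eq_zero 2 (le_refl 2)
              linear_combination t * h22
            · rw [hj, hsq, F.e_eq_one.2 hs]
          have := orderOf_dvd_of_pow_eq_one hg2
          rw [ho] at this
          norm_num at this
        · intro hs
          refine isCyclic_of_orderOf_eq_card ⟨_, hi⟩ ?_
          rw [Subgroup.orderOf_mk, hNc]
          refine orderOf_eq_prime_pow (p := 2) (n := 1) ?_ ?_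
          · rw [show (2 : ℕ) ^ 1 = 2 from rfl, hsq]; exact fun h => hs (F.e_eq_one.1 h)
          · have h4e : (F.e i * F.y) ^ (2 * 2) = 1 := by
              rw [pow_mul, hsq, F.e_sq, F.e_eq_one]
              exact hr.two_mul_eq_zero F.r_mul_s
            exact h4e
      simp only [hiff, h4N, and_true, not_not, lt_irrefl, false_and, false_or, true_and]
  have h3 := card_index_prime_over (p := 2) (frattini G) (by rw [hPhi]; norm_num)
    (quotient_pow_of_frattini_le hG le_rfl)
  have htot : Nat.card {M : Subgroup G // M.index = 2} = 3 :=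
    (Nat.card_congr (Equiv.subtypeEquivRight fun M =>
      ⟨fun hM => ⟨frattini_le_of_index hG hM, hM⟩, fun hM => hM.2⟩)).trans h3
  have hrotbad : ¬ (¬ IsCyclic F.rot ∧ ¬ (k + 2 ≤ m ∧ (commutator F.rot).index = 4)) :=
    fun h => h.1 F.isCyclic_rot
  by_cases hC : (2 < m ∧ ¬ k + 2 ≤ m) ∨ (m = 2 ∧ s = 0 ∧ ¬ k + 2 ≤ m)
  · have hsplit := card_maximal_split (p := 2) (G := G)
      (fun M => ¬ IsCyclic M ∧ ¬ (k + 2 ≤ m ∧ (commutator M).index = 4))
    have e : Nat.card {M : Subgroup G // M.index = 2 ∧
        ¬ (¬ IsCyclic M ∧ ¬ (k + 2 ≤ m ∧ (commutator M).index = 4))} = 1 := by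
      refine Nat.card_eq_one_iff_exists.2 ⟨⟨F.rot, hrot, hrotbad⟩, fun M => Subtype.ext ?_⟩
      by_contra hne
      exact M.2.2 ((hunif M.1 M.2.1 hne).2 hC)
    rw [e, htot] at hsplit
    unfold Nat.ModEq
    omega
  · rw [Nat.card_eq_zero.2 (Or.inl ⟨fun M => ?_⟩)]
    by_cases hne : M.1 = F.rot
    · exact hrotbad (hne ▸ M.2.2)
    · exact hC ((hunif M.1 M.2.1 hne).1 M.2.2)

end TwoGroups

/-- Kulakoff's theorem for `p = 2`: `1` modulo `4` for maximal class and small order, else `3`. -/
theorem numSub_modEq_two : ∀ (m : ℕ) {G : Type*} [Group G] [Finite G], Nat.card G = 2 ^ m →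
    ¬ IsCyclic G → ∀ k, 1 ≤ k → k < m →
      ((k + 2 ≤ m ∧ (commutator G).index = 4) → numSub G (2 ^ k) ≡ 1 [MOD 2 ^ 2]) ∧
      (¬ (k + 2 ≤ m ∧ (commutator G).index = 4) → numSub G (2 ^ k) ≡ 1 + 2 [MOD 2 ^ 2]) := by
  haveI : Fact (Nat.Prime 2) := ⟨Nat.prime_two⟩
  intro m
  induction m using Nat.strong_induction_on with
  | _ m ih =>
  intro G _ _ hm hnc k hk1 hk2
  obtain ⟨j, rfl⟩ := exists_eq_add_one_of_not_isCyclic hm hnc
  have hG : IsPGroup 2 G := IsPGroup.of_card hm
  rcases (show k = j + 1 ∨ k + 2 ≤ j + 2 by omega) with rfl | hk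
  · refine ⟨fun h => by omega, fun _ => ?_⟩
    rw [numSub_index_prime hm]; exact card_maximal_modEq hG hnc
  have hrec := numSub_modEq_of_maximal hm hnc hk
    (fun M => ¬ IsCyclic M ∧ ¬ (k + 2 ≤ j + 1 ∧ (commutator M).index = 4))
    (fun M hM hMg =>
      (ih (j + 1) (by omega) (card_of_index hm hM) hMg.1 k hk1 (by omega)).2 hMg.2)
    (fun M hM hMg => by
      by_cases hc : IsCyclic M
      · exact congrArg (· % 2 ^ 2)
          (numSub_of_isCyclic (card_of_index hm hM ▸ pow_dvd_pow 2 (show k ≤ j + 1 by omega)))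
      · simp only [hc, not_false_eq_true, true_and, not_not] at hMg
        exact (ih (j + 1) (by omega) (card_of_index hm hM) hc k hk1 (by omega)).1 hMg)
  refine ⟨fun h => hrec.trans (mul_modEq_one_of_modEq_zero
    (card_good_maximal_even hm (by omega) h.2)), fun h => hrec.trans (mul_modEq_self_of_modEq_one ?_)⟩
  have h4 : (commutator G).index ≠ 4 := fun h' => h ⟨hk, h'⟩
  have hA := card_noncyclic_maximal_modEq hm (by omega) hnc (fun _ => h4)
  by_cases hk' : k + 2 ≤ j + 1
  swap
  · have e : Nat.card {M : Subgroup G // M.index = 2 ∧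
        (¬ IsCyclic M ∧ ¬ (k + 2 ≤ j + 1 ∧ (commutator M).index = 4))} =
        Nat.card {M : Subgroup G // M.index = 2 ∧ ¬ IsCyclic M} :=
      Nat.card_congr (Equiv.subtypeEquivRight fun M => by simp [hk'])
    rwa [e]
  have hB := card_maxClass_maximal_even hm (by omega) h4
  have hsplit := Nat.card_congr (Equiv.sumCompl
    (fun M : {M : Subgroup G // M.index = 2 ∧ ¬ IsCyclic M} => (commutator M.1).index = 4))
  have hnotboth : ∀ M : Subgroup G, M.index = 2 → (commutator M).index = 4 → ¬ IsCyclic M := by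
    intro M hM h' hc
    haveI := hc
    rw [CfsgLib.TwoGroup.commutator_eq_bot_iff_comm.2 inferInstance, Subgroup.index_bot,
      card_of_index hm hM] at h'
    have := Nat.pow_le_pow_right two_pos (show 3 ≤ j + 1 by omega)
    omega
  rw [Nat.card_sum,
    Nat.card_congr (Equiv.subtypeSubtypeEquivSubtypeInter
      (fun M : Subgroup G => M.index = 2 ∧ ¬ IsCyclic M) (fun M => (commutator M).index = 4)),
    Nat.card_congr (Equiv.subtypeSubtypeEquivSubtypeInter
      (fun M : Subgroup G => M.index = 2 ∧ ¬ IsCyclic M) (fun M => ¬ (commutator M).index = 4)),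
    show Nat.card {M : Subgroup G // (M.index = 2 ∧ ¬ IsCyclic M) ∧ (commutator M).index = 4} =
      Nat.card {M : Subgroup G // M.index = 2 ∧ (commutator M).index = 4} from
      Nat.card_congr (Equiv.subtypeEquivRight fun M =>
        ⟨fun h => ⟨h.1.1, h.2⟩, fun h => ⟨⟨h.1, hnotboth M h.1 h.2⟩, h.2⟩⟩),
    show Nat.card {M : Subgroup G // (M.index = 2 ∧ ¬ IsCyclic M) ∧ ¬ (commutator M).index = 4} =
      Nat.card {M : Subgroup G // M.index = 2 ∧
        (¬ IsCyclic M ∧ ¬ (k + 2 ≤ j + 1 ∧ (commutator M).index = 4))} from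
      Nat.card_congr (Equiv.subtypeEquivRight fun M => by simp [hk', and_assoc])] at hsplit
  unfold Nat.ModEq at *
  omega

end CfsgLib.PGroup
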