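import Cfsg.Agent.PGroup.Frattini
import Cfsg.Agent.Eq.Def_PLocal
import Cfsg.Prelude.Def_PLocal

/-!
Elementary theory of regular `p`-groups.
-/

namespace CfsgLib.PGroup

open scoped commutatorElement

universe u

variable {G : Type u} [Group G]

theorem isRegularPGroup_subgroup {p : ℕ} (h : Cfsg.IsRegularPGroup p G) (H : Subgroup G) :
    Cfsg.IsRegularPGroup p H := by
  refine ⟨h.1.to_subgroup H, fun a b n => ?_⟩
  obtain ⟨c, hc, he⟩ := h.2 (a : G) (b : G) n
  set K := Subgroup.closure ({a, b} : Set H) with hK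
  have hK' : K.map H.subtype = Subgroup.closure ({(a : G), (b : G)} : Set G) := by
    rw [hK, MonoidHom.map_closure]; simp [Set.image_pair]
  have hD : (⁅K, K⁆ : Subgroup H).map H.subtype =
      ⁅Subgroup.closure ({(a : G), (b : G)} : Set G), Subgroup.closure {(a : G), (b : G)}⁆ := by
    rw [Subgroup.map_commutator, hK']
  have hle : Cfsg.powerClosure p n
      ⁅Subgroup.closure ({(a : G), (b : G)} : Set G), Subgroup.closure {(a : G), (b : G)}⁆ ≤
      (Cfsg.powerClosure p n ⁅K, K⁆).map H.subtype := by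
    rw [Cfsg.powerClosure, Subgroup.closure_le]
    rintro y ⟨x, hx, rfl⟩
    rw [← hD] at hx
    obtain ⟨x', hx', rfl⟩ := hx
    exact ⟨x' ^ p ^ n, Subgroup.subset_closure ⟨x', hx', rfl⟩, by simp⟩
  obtain ⟨c', hc', rfl⟩ := hle hc
  exact ⟨c', hc', Subtype.ext (by simpa using he)⟩

theorem powerClosure_eq_bot {p n : ℕ} {D : Subgroup G} (h : ∀ x ∈ D, x ^ p ^ n = 1) :
    Cfsg.powerClosure p n D = ⊥ := by
  rw [eq_bot_iff, Cfsg.powerClosure, Subgroup.closure_le]
  rintro y ⟨x, hx, rfl⟩
  exact Subgroup.mem_bot.2 (h x hx)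

theorem commutator_le_normalClosure_pair {a b : G}
    (h : Subgroup.closure ({a, b} : Set G) = ⊤) :
    commutator G ≤ Subgroup.normalClosure {⁅a, b⁆} := by
  set N := Subgroup.normalClosure ({⁅a, b⁆} : Set G) with hN
  set f := QuotientGroup.mk' N with hf
  have hab : Commute (f a) (f b) := by
    rw [← commutatorElement_eq_one_iff_commute, ← map_commutatorElement]
    exact (QuotientGroup.eq_one_iff _).2 (Subgroup.subset_normalClosure (Set.mem_singleton _))
  have hpair : ∀ x : G, ∀ y ∈ ({a, b} : Set G), Commute (f x) (f y) := by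
    intro x y hy
    have : Subgroup.closure ({a, b} : Set G) ≤ (Subgroup.centralizer {f y}).comap f := by
      rw [Subgroup.closure_le]
      intro z hz
      rw [SetLike.mem_coe, Subgroup.mem_comap, Subgroup.mem_centralizer_singleton_iff]
      rcases hy with rfl | rfl <;> rcases hz with rfl | rfl
      exacts [rfl, hab.eq.symm, hab.eq, rfl]
    have hx := this (h ▸ Subgroup.mem_top x)
    rw [Subgroup.mem_comap, Subgroup.mem_centralizer_singleton_iff] at hx
    exact hx
  rw [commutator_def, Subgroup.commutator_le]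
  intro x _ y _
  rw [← QuotientGroup.eq_one_iff, ← QuotientGroup.mk'_apply, ← hf, map_commutatorElement,
    commutatorElement_eq_one_iff_commute]
  have : Subgroup.closure ({a, b} : Set G) ≤ (Subgroup.centralizer {f x}).comap f := by
    rw [Subgroup.closure_le]
    intro z hz
    rw [SetLike.mem_coe, Subgroup.mem_comap, Subgroup.mem_centralizer_singleton_iff]
    exact (hpair x z hz).eq.symm
  have hy := this (h ▸ Subgroup.mem_top y)
  rw [Subgroup.mem_comap, Subgroup.mem_centralizer_singleton_iff] at hy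
  exact hy.symm

theorem mul_pow_eq_of_commutator_killed {p n : ℕ} (h : Cfsg.IsRegularPGroup p G) {a b : G}
    (hD : ∀ x ∈ ⁅Subgroup.closure ({a, b} : Set G), Subgroup.closure {a, b}⁆, x ^ p ^ n = 1) :
    (a * b) ^ p ^ n = a ^ p ^ n * b ^ p ^ n := by
  obtain ⟨c, hc, he⟩ := h.2 a b n
  rw [powerClosure_eq_bot hD, Subgroup.mem_bot] at hc
  rw [he, hc, mul_one]

/-- A pair `a, b a b⁻¹` generates a proper subgroup unless the group is commutative. -/
theorem closure_pair_conj_ne_top [Finite G] {p : ℕ} [Fact p.Prime] (hG : IsPGroup p G)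
    {a b : G} (hab : ¬ Commute a b) :
    Subgroup.closure ({a, b * a * b⁻¹} : Set G) ≠ ⊤ := by
  intro h
  have hle : Subgroup.closure ({a, b * a * b⁻¹} : Set G) ≤ Subgroup.zpowers a ⊔ frattini G := by
    rw [Subgroup.closure_le]
    rintro z (rfl | rfl)
    · exact Subgroup.mem_sup_left (Subgroup.mem_zpowers _)
    · have e : b * a * b⁻¹ = ⁅b, a⁆ * a := by simp [commutatorElement_def]
      rw [e]
      exact mul_mem (Subgroup.mem_sup_right (commutatorElement_mem_frattini hG b a))
        (Subgroup.mem_sup_left (Subgroup.mem_zpowers _))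
  rw [h, top_le_iff] at hle
  have htop := frattini_nongenerating hle
  obtain ⟨k, hk⟩ : b ∈ Subgroup.zpowers a := htop ▸ Subgroup.mem_top b
  exact hab (hk ▸ (Commute.refl a).zpow_right k)

/-- In a regular `p`-group, products of elements killed by `p ^ n` are killed by `p ^ n`. -/
theorem closure_pow_eq_one {p : ℕ} [Fact p.Prime] (n : ℕ) [Finite G]
    (h : Cfsg.IsRegularPGroup p G) (S : Set G) (hS : ∀ x ∈ S, x ^ p ^ n = 1) :
    ∀ y ∈ Subgroup.closure S, y ^ p ^ n = 1 := by
  suffices key : ∀ (m : ℕ) (G : Type u) [Group G] [Finite G], Nat.card G = m →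
      Cfsg.IsRegularPGroup p G → ∀ a b : G, a ^ p ^ n = 1 → b ^ p ^ n = 1 →
      (a * b) ^ p ^ n = 1 by
    intro y hy
    induction hy using Subgroup.closure_induction with
    | mem x hx => exact hS x hx
    | one => exact one_pow _
    | mul a b _ _ ha hb => exact key _ G rfl h a b ha hb
    | inv a _ ha => rw [inv_pow, ha, inv_one]
  intro m
  induction m using Nat.strong_induction_on with
  | _ m ih =>
  intro G _ _ hm hG a b ha hb
  have sub : ∀ H : Subgroup G, H ≠ ⊤ → ∀ x ∈ H, ∀ y ∈ H, x ^ p ^ n = 1 → y ^ p ^ n = 1 →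
      (x * y) ^ p ^ n = 1 := by
    intro H hH x hx y hy hxp hyp
    have hlt : Nat.card H < m := hm ▸ lt_of_le_of_ne (Subgroup.card_le_card_group H)
      fun he => hH (Subgroup.eq_top_of_card_eq H he)
    have := ih _ hlt H rfl (isRegularPGroup_subgroup hG H) ⟨x, hx⟩ ⟨y, hy⟩
      (Subtype.ext (by simpa using hxp)) (Subtype.ext (by simpa using hyp))
    simpa using congrArg Subtype.val this
  by_cases hK : Subgroup.closure ({a, b} : Set G) = ⊤
  swap
  · exact sub _ hK a (Subgroup.subset_closure (by simp)) b (Subgroup.subset_closure (by simp)) ha hb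
  by_cases hab : Commute a b
  · rw [hab.mul_pow, ha, hb, mul_one]
  have hc : ⁅a, b⁆ ^ p ^ n = 1 := by
    have hcj : (b * a⁻¹ * b⁻¹) ^ p ^ n = 1 := by rw [conj_pow, inv_pow, ha]; simp
    have := sub _ (closure_pair_conj_ne_top hG.1 hab) a (Subgroup.subset_closure (by simp))
      (b * a⁻¹ * b⁻¹)
      (by
        have : b * a⁻¹ * b⁻¹ = (b * a * b⁻¹)⁻¹ := by group
        rw [this]
        exact inv_mem (Subgroup.subset_closure (by simp))) ha hcj
    rwa [commutatorElement_def, show a * b * a⁻¹ * b⁻¹ = a * (b * a⁻¹ * b⁻¹) by group]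
  have hne : commutator G ≠ ⊤ := by
    intro ht
    haveI : Nontrivial G := ⟨⟨a * b, b * a, hab⟩⟩
    exact frattini_ne_top (top_le_iff.1 (ht ▸ commutator_le_frattini hG.1))
  have hD : ∀ x ∈ commutator G, x ^ p ^ n = 1 := by
    intro x hx
    have hx' := commutator_le_normalClosure_pair hK hx
    have hsub : Subgroup.normalClosure {⁅a, b⁆} ≤ commutator G :=
      Subgroup.normalClosure_le_normal (Set.singleton_subset_iff.2
        (Subgroup.commutator_mem_commutator (Subgroup.mem_top a) (Subgroup.mem_top b)))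
    rw [Subgroup.normalClosure] at hx' hsub
    induction hx' using Subgroup.closure_induction with
    | mem z hz =>
      obtain ⟨w, rfl, hw⟩ := Group.mem_conjugatesOfSet_iff.1 hz
      obtain ⟨g, rfl⟩ := isConj_iff.1 hw
      rw [conj_pow, hc]; simp
    | one => exact one_pow _
    | mul u v hu hv hu' hv' =>
      exact sub _ hne u (hsub hu) v (hsub hv) (hu' (hsub hu)) (hv' (hsub hv))
    | inv u hu hu' => rw [inv_pow, hu' (hsub hu), inv_one]
  have := mul_pow_eq_of_commutator_killed hG (a := a) (b := b) (n := n)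
    (by rw [hK]; exact hD)
  rw [this, ha, hb, mul_one]

/-- The derived group of `⟨a, b⟩` is killed by `p ^ n` if `⁅a, b⁆` is. -/
theorem commutator_killed {p n : ℕ} [Fact p.Prime] [Finite G] (h : Cfsg.IsRegularPGroup p G)
    {a b : G} (hc : ⁅a, b⁆ ^ p ^ n = 1) :
    ∀ x ∈ ⁅Subgroup.closure ({a, b} : Set G), Subgroup.closure {a, b}⁆, x ^ p ^ n = 1 := by
  set K := Subgroup.closure ({a, b} : Set G) with hK
  have ha : a ∈ K := Subgroup.subset_closure (by simp)
  have hb : b ∈ K := Subgroup.subset_closure (by simp)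
  intro x hx
  rw [← Subgroup.map_subtype_commutator] at hx
  obtain ⟨x', hx', rfl⟩ := hx
  have htop : Subgroup.closure ({⟨a, ha⟩, ⟨b, hb⟩} : Set K) = ⊤ := by
    apply Subgroup.map_injective K.subtype_injective
    rw [MonoidHom.map_closure, Set.image_pair, ← MonoidHom.range_eq_map, Subgroup.range_subtype]
    exact hK.symm
  have h2 := commutator_le_normalClosure_pair htop hx'
  rw [Subgroup.normalClosure] at h2
  have h3 : x' ^ p ^ n = 1 := by
    refine closure_pow_eq_one n (isRegularPGroup_subgroup h K) _ ?_ x' h2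
    intro z hz
    obtain ⟨w, rfl, hw⟩ := Group.mem_conjugatesOfSet_iff.1 hz
    obtain ⟨g, rfl⟩ := isConj_iff.1 hw
    rw [conj_pow, Subtype.ext (by simpa [commutatorElement_def] using hc :
      ((⁅(⟨a, ha⟩ : K), ⟨b, hb⟩⁆ ^ p ^ n : K) : G) = ((1 : K) : G))]
    simp
  simpa using congrArg (fun z : K => (z : G)) h3

theorem pow_eq_imp_div_pow_eq_one {p : ℕ} [Fact p.Prime] (n : ℕ) [Finite G]
    (h : Cfsg.IsRegularPGroup p G) {a b : G} (he : a ^ p ^ n = b ^ p ^ n) :
    (a * b⁻¹) ^ p ^ n = 1 := by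
  suffices key : ∀ (m : ℕ) (G : Type u) [Group G] [Finite G], Nat.card G = m →
      Cfsg.IsRegularPGroup p G → ∀ a b : G, a ^ p ^ n = b ^ p ^ n →
      (a * b⁻¹) ^ p ^ n = 1 from key _ G rfl h a b he
  intro m
  induction m using Nat.strong_induction_on with
  | _ m ih =>
  intro G _ _ hm hG a b he
  by_cases hab : Commute a b
  · rw [hab.inv_right.mul_pow, inv_pow, he, mul_inv_cancel]
  set L := Subgroup.closure ({a, b * a * b⁻¹} : Set G) with hL
  have hlt : Nat.card L < m := hm ▸ lt_of_le_of_ne (Subgroup.card_le_card_group L)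
    fun he' => closure_pair_conj_ne_top hG.1 hab (Subgroup.eq_top_of_card_eq L he')
  have hconj : a ^ p ^ n = (b * a * b⁻¹) ^ p ^ n := by
    rw [conj_pow, he, ← (Commute.self_pow b (p ^ n)).eq.symm, mul_inv_cancel_right]
  have h1 := ih _ hlt L rfl (isRegularPGroup_subgroup hG L)
    ⟨a, Subgroup.subset_closure (by simp)⟩ ⟨b * a * b⁻¹, Subgroup.subset_closure (by simp)⟩
    (Subtype.ext (by simpa using hconj))
  have hc : ⁅a, b⁆ ^ p ^ n = 1 := by
    have h2 := congrArg (fun z : L => (z : G)) h1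
    have e : ⁅a, b⁆ = a * (b * a * b⁻¹)⁻¹ := by simp [commutatorElement_def, mul_assoc]
    rw [e]
    simpa using h2
  have hcomm := commutator_killed hG hc
  have hK : Subgroup.closure ({a, b⁻¹} : Set G) = Subgroup.closure {a, b} := by
    apply le_antisymm <;> rw [Subgroup.closure_le] <;> rintro z (rfl | rfl)
    · exact Subgroup.subset_closure (by simp)
    · exact inv_mem (Subgroup.subset_closure (by simp))
    · exact Subgroup.subset_closure (by simp)
    · simpa using inv_mem (Subgroup.subset_closure (show z⁻¹ ∈ ({a, z⁻¹} : Set G) by simp))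
  rw [mul_pow_eq_of_commutator_killed hG (hK ▸ hcomm), inv_pow, he, mul_inv_cancel]

theorem pow_eq_iff {p : ℕ} [Fact p.Prime] (n : ℕ) [Finite G]
    (h : Cfsg.IsRegularPGroup p G) (a b : G) :
    a ^ p ^ n = b ^ p ^ n ↔ (a * b⁻¹) ^ p ^ n = 1 := by
  refine ⟨pow_eq_imp_div_pow_eq_one n h, fun hu => ?_⟩
  have hc : ⁅a * b⁻¹, b⁆ ^ p ^ n = 1 := by
    have hv : (b * (a * b⁻¹)⁻¹ * b⁻¹) ^ p ^ n = 1 := by rw [conj_pow, inv_pow, hu]; simp
    have e : ⁅a * b⁻¹, b⁆ = (a * b⁻¹) * (b * (a * b⁻¹)⁻¹ * b⁻¹) := by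
      simp only [commutatorElement_def]; group
    rw [e]
    refine closure_pow_eq_one n h {a * b⁻¹, b * (a * b⁻¹)⁻¹ * b⁻¹} ?_ _
      (mul_mem (Subgroup.subset_closure (by simp)) (Subgroup.subset_closure (by simp)))
    rintro z (rfl | rfl)
    exacts [hu, hv]
  have := mul_pow_eq_of_commutator_killed h (commutator_killed h hc)
  rw [inv_mul_cancel_right, hu, one_mul] at this
  exact this

theorem pow_commute_iff {p : ℕ} [Fact p.Prime] (n : ℕ) [Finite G]
    (h : Cfsg.IsRegularPGroup p G) (a b : G) :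
    Commute (a ^ p ^ n) b ↔ (a⁻¹ * b⁻¹ * a * b) ^ p ^ n = 1 := by
  have e1 : Commute (a ^ p ^ n) b ↔ (b⁻¹ * a * b) ^ p ^ n = a ^ p ^ n := by
    have := conj_pow (i := p ^ n) (a := b⁻¹) (b := a)
    rw [inv_inv] at this
    rw [this, Commute, SemiconjBy, mul_assoc, inv_mul_eq_iff_eq_mul]
  have e2 : a⁻¹ * b⁻¹ * a * b = a⁻¹ * (b⁻¹ * a * b * a⁻¹) * a⁻¹⁻¹ := by group
  rw [e1, pow_eq_iff n h, e2, conj_pow]
  constructor
  · intro hh; rw [hh]; simp
  · intro hh
    exact conj_eq_one_iff.1 hh

/-- The elements killed by `p ^ n` form a characteristic subgroup. -/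
theorem exists_characteristic_torsion {p : ℕ} [Fact p.Prime] (n : ℕ) [Finite G]
    (h : Cfsg.IsRegularPGroup p G) :
    ∃ H : Subgroup G, H.Characteristic ∧ (H : Set G) = {x : G | x ^ p ^ n = 1} := by
  let H : Subgroup G :=
    { carrier := {x | x ^ p ^ n = 1}
      one_mem' := one_pow _
      mul_mem' := fun {a b} ha hb => closure_pow_eq_one n h {a, b}
        (by rintro z (rfl | rfl); exacts [ha, hb]) _
        (mul_mem (Subgroup.subset_closure (by simp)) (Subgroup.subset_closure (by simp)))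
      inv_mem' := fun {a} (ha : a ^ p ^ n = 1) => by
        change (a⁻¹) ^ p ^ n = 1
        rw [inv_pow, ha, inv_one] }
  refine ⟨H, Subgroup.characteristic_iff_comap_eq.2 fun φ => ?_, rfl⟩
  ext x
  change (φ x) ^ p ^ n = 1 ↔ x ^ p ^ n = 1
  rw [← map_pow, map_eq_one_iff φ φ.injective]

end CfsgLib.PGroup
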